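import Cfsg.Agent.H819.Base
import Cfsg.Agent.S5534
import Cfsg.Agent.H848.MonsterSetup

/-!
# The centralizer of a 2A-involution of the Monster (helper819)

`main` : for a chart `(Q, z, eta, pi)` of `Spor.Monster` and `t ∈ Q` over a vector of type 2: `C(t)` is perfect, its centre is
`⟨t⟩` of order 2 with quotient `Spor.BabyMonster`, and every involution is conjugate to `z` or to `t`, not to both.
-/

set_option autoImplicit false

namespace Cfsg.Agent.H819.TwoACent

open Cfsg
open Cfsg.Agent.MonsterU.Lam2 (L2 IsType)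
open Cfsg.Agent.MonsterU.Ch
open Cfsg.Spor (Co1)
open Subgroup (centralizer mem_centralizer_singleton_iff)
open scoped commutatorElement

/-! ### Generalities -/

/-- A nonsplit double cover of a nonabelian simple group is perfect. -/
theorem perfect_of_cover {H K : Type*} [Group H] [Group K] [IsSimpleGroup K] (hna : ∃ a b : K, a * b ≠ b * a)
    (h : IsNonsplitDoubleCover H K) : commutator H = ⊤ := by
  obtain ⟨hc, ⟨e⟩, hns⟩ := h
  set Z := Subgroup.center H with hZ
  let f : H →* K := e.toMonoidHom.comp (QuotientGroup.mk' Z)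
  have hf : Function.Surjective f := e.surjective.comp (QuotientGroup.mk'_surjective Z)
  have hk : ∀ x, f x = 1 ↔ x ∈ Z := by
    intro x
    show e (QuotientGroup.mk x) = 1 ↔ _
    rw [map_eq_one_iff e e.injective, QuotientGroup.eq_one_iff]
  have h1 : (commutator H).map f = ⊤ := by
    have hn : ((commutator H).map f).Normal := Subgroup.Normal.map inferInstance f hf
    rcases hn.eq_bot_or_eq_top with h2 | h2
    · exfalso
      obtain ⟨a, b, hab⟩ := hna
      obtain ⟨x, rfl⟩ := hf a
      obtain ⟨y, rfl⟩ := hf b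
      have h3 : f ⁅x, y⁆ ∈ (commutator H).map f :=
        ⟨_, Subgroup.commutator_mem_commutator (Subgroup.mem_top x) (Subgroup.mem_top y), rfl⟩
      rw [h2, Subgroup.mem_bot, map_commutatorElement, commutatorElement_eq_one_iff_mul_comm] at h3
      exact hab h3
    · exact h2
  have h2 : commutator H ⊔ Z = ⊤ := by
    rw [eq_top_iff]
    intro x _
    have h3 : f x ∈ (commutator H).map f := by rw [h1]; trivial
    obtain ⟨y, hy, hyx⟩ := h3
    have h4 : y⁻¹ * x ∈ Z := by
      rw [← hk, map_mul, map_inv, hyx, inv_mul_cancel]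
    have h5 : x = y * (y⁻¹ * x) := by group
    rw [h5]
    exact Subgroup.mul_mem_sup hy h4
  by_cases h3 : Z ≤ commutator H
  · rwa [sup_eq_left.2 h3] at h2
  · exfalso
    apply hns (commutator H)
    have h4 : Z ⊓ commutator H = ⊥ := by
      have : Finite ↥Z := Nat.finite_of_card_ne_zero (by rw [hc]; norm_num)
      have h5 : Nat.card ↥(Z ⊓ commutator H) ∣ 2 := by
        rw [← hc]
        exact Subgroup.card_dvd_of_le inf_le_left
      rcases (Nat.dvd_prime Nat.prime_two).1 h5 with h6 | h6
      · exact Subgroup.card_eq_one.1 h6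
      · exfalso
        apply h3
        have h7 : Z ⊓ commutator H = Z := by
          apply Subgroup.eq_of_le_of_card_ge inf_le_left
          rw [h6, hc]
        rw [← h7]
        exact inf_le_right
    refine Subgroup.isComplement'_of_disjoint_and_mul_eq_univ (disjoint_iff.2 h4) ?_
    rw [← Subgroup.normal_mul, sup_comm, h2]
    rfl

/-- conjugation as an isomorphism of centralizers -/
noncomputable def centEquiv {G : Type*} [Group G] {x y g : G} (h : g * x * g⁻¹ = y) :
    ↥(centralizer ({x} : Set G)) ≃* ↥(centralizer ({y} : Set G)) where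
  toFun c := ⟨g * c * g⁻¹, by
    have h1 := mem_centralizer_singleton_iff.1 c.2
    rw [mem_centralizer_singleton_iff, ← h]
    calc g * c * g⁻¹ * (g * x * g⁻¹) = g * (c * x) * g⁻¹ := by group
      _ = g * (x * c) * g⁻¹ := by rw [h1]
      _ = g * x * g⁻¹ * (g * c * g⁻¹) := by group⟩
  invFun c := ⟨g⁻¹ * c * g, by
    have h1 := mem_centralizer_singleton_iff.1 c.2
    have h2 : x = g⁻¹ * y * g := by rw [← h]; group
    rw [mem_centralizer_singleton_iff, h2]
    calc g⁻¹ * c * g * (g⁻¹ * y * g) = g⁻¹ * (c * y) * g := by group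
      _ = g⁻¹ * (y * c) * g := by rw [h1]
      _ = g⁻¹ * y * g * (g⁻¹ * c * g) := by group⟩
  left_inv c := Subtype.ext (by show g⁻¹ * (g * c * g⁻¹) * g = c; group)
  right_inv c := Subtype.ext (by show g * (g⁻¹ * c * g) * g⁻¹ = c; group)
  map_mul' a b := Subtype.ext (by show g * (a * b : G) * g⁻¹ = (g * a * g⁻¹) * (g * b * g⁻¹); group)

/-- the centralizer of `z` is not a double cover -/
theorem not_cover {G : Type*} [Group G] [Finite G] {Q : Subgroup G} {z : G} {eta : G → L2}
    {pi : centralizer ({z} : Set G) →* Co1} (h : Chart Q z eta pi) {K : Type*} [Group K] [IsSimpleGroup K]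
    (h3 : 3 ∣ Nat.card K) (hcov : IsNonsplitDoubleCover ↥(centralizer ({z} : Set G)) K) : False := by
  obtain ⟨hc, ⟨e⟩, -⟩ := hcov
  set Z := Subgroup.center ↥(centralizer ({z} : Set G)) with hZ
  let f : ↥(centralizer ({z} : Set G)) →* K := e.toMonoidHom.comp (QuotientGroup.mk' Z)
  have hf : Function.Surjective f := e.surjective.comp (QuotientGroup.mk'_surjective Z)
  have hk : ∀ x, f x = 1 ↔ x ∈ Z := by
    intro x
    show e (QuotientGroup.mk x) = 1 ↔ _
    rw [map_eq_one_iff e e.injective, QuotientGroup.eq_one_iff]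
  have hQz : Q ≤ centralizer ({z} : Set G) := fun q hq => mem_centralizer_singleton_iff.2 (h.large.comm_z q hq)
  have hn : (Q.subgroupOf (centralizer ({z} : Set G))).Normal :=
    ⟨fun q hq c => h.large.conj_mem c (mem_centralizer_singleton_iff.1 c.2) q hq⟩
  have hcard : Nat.card ↥(Q.subgroupOf (centralizer ({z} : Set G))) = 2 ^ 25 := by
    rw [Nat.card_congr (Subgroup.subgroupOfEquivOfLe hQz).toEquiv, h.card_Q]
  have hn2 : ((Q.subgroupOf (centralizer ({z} : Set G))).map f).Normal := Subgroup.Normal.map hn f hf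
  rcases hn2.eq_bot_or_eq_top with h4 | h4
  · have h5 : Q.subgroupOf (centralizer ({z} : Set G)) ≤ Z := by
      intro q hq
      rw [← hk]
      have h6 : f q ∈ (Q.subgroupOf (centralizer ({z} : Set G))).map f := ⟨q, hq, rfl⟩
      rwa [h4, Subgroup.mem_bot] at h6
    have h6 := Subgroup.card_dvd_of_le h5
    rw [hcard, hc] at h6
    exact absurd (Nat.le_of_dvd (by norm_num) h6) (by norm_num)
  · have h5 := (Q.subgroupOf (centralizer ({z} : Set G))).card_map_dvd f
    rw [h4, Subgroup.card_top, hcard] at h5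
    have h6 := Nat.Prime.dvd_of_dvd_pow Nat.prime_three (h3.trans h5)
    norm_num at h6

/-! ### The Monster -/

theorem baby : IsB Spor.BabyMonster := Cfsg.Agent.S1704.result

instance simple_B : IsSimpleGroup Spor.BabyMonster := baby.1

theorem six_dvd : 2 ∣ Nat.card Spor.BabyMonster ∧ 3 ∣ Nat.card Spor.BabyMonster := by
  rw [baby.2]
  exact ⟨by norm_num, by norm_num⟩

theorem three_dvd : 3 ∣ Nat.card Spor.BabyMonster := six_dvd.2

theorem nonab_of {K : Type*} [Group K] [IsSimpleGroup K] (h2 : 2 ∣ Nat.card K) (h3 : 3 ∣ Nat.card K) (h0 : Nat.card K ≠ 0) :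
    ∃ a b : K, a * b ≠ b * a := by
  by_contra hn
  push Not at hn
  have hfin : Finite K := Nat.finite_of_card_ne_zero h0
  have hp : (Nat.card K).Prime := by
    let _ : CommGroup K := { (inferInstance : Group K) with mul_comm := hn }
    exact IsSimpleGroup.prime_card
  have h4 := (Nat.prime_dvd_prime_iff_eq Nat.prime_two hp).1 h2
  have h5 := (Nat.prime_dvd_prime_iff_eq Nat.prime_three hp).1 h3
  omega

theorem nonab : ∃ a b : Spor.BabyMonster, a * b ≠ b * a :=
  nonab_of six_dvd.1 six_dvd.2 (by rw [baby.2]; norm_num)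

theorem twoClasses : Cfsg.Agent.MonsterU.Transfer.TwoClasses Spor.Monster := by
  obtain ⟨e⟩ := Cfsg.Agent.MonsterP.Equiv.equiv
  exact Cfsg.Agent.MonsterU.Transfer.twoClasses e
    (Cfsg.Agent.MonsterU.Assembly.All.twoClasses Cfsg.Agent.MonsterU.Uncond.all)

/-- conjugation as an isomorphism of centralizers -/
theorem cover_conj {y t : Spor.Monster} (h : IsConj y t)
    (hcov : IsNonsplitDoubleCover ↥(centralizer ({y} : Set Spor.Monster)) Spor.BabyMonster) :
    IsNonsplitDoubleCover ↥(centralizer ({t} : Set Spor.Monster)) Spor.BabyMonster := by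
  obtain ⟨g, hg⟩ := isConj_iff.1 h
  exact Cfsg.Agent.MonsterU.Transfer.isNonsplitDoubleCover (centEquiv hg).symm hcov

/-- the involutions of the Monster -/
theorem involutions {Q : Subgroup Spor.Monster} {z : Spor.Monster} {eta : Spor.Monster → L2}
    {pi : centralizer ({z} : Set Spor.Monster) →* Co1} (h : Chart Q z eta pi) {t : Spor.Monster} (ht : orderOf t = 2)
    (hzt : ¬ IsConj z t) :
    IsNonsplitDoubleCover ↥(centralizer ({t} : Set Spor.Monster)) Spor.BabyMonster ∧
      ∀ u : Spor.Monster, orderOf u = 2 → IsConj u z ∨ IsConj u t := by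
  have hfin := Cfsg.Agent.H848.MonsterSetup.finite
  obtain ⟨y, hy, hcov⟩ := Cfsg.Agent.S5534.result
  obtain ⟨a, b, -, -, -, hab⟩ := twoClasses
  have hz : orderOf z = 2 := orderOf_eq_prime (by rw [pow_two, h.large.z_sq]) h.large.z_ne
  have hzy : ¬ IsConj y z := fun hc => not_cover h three_dvd (cover_conj hc hcov)
  have key : ∀ {x : Spor.Monster}, orderOf x = 2 → ¬ IsConj z x → ∀ u : Spor.Monster, orderOf u = 2 →
      IsConj u z ∨ IsConj u x := by
    intro x hx hzx u hu
    rcases hab z hz with h1 | h1 <;> rcases hab x hx with h2 | h2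
    · exact absurd (h1.trans h2.symm) hzx
    · rcases hab u hu with h3 | h3
      · exact Or.inl (h3.trans h1.symm)
      · exact Or.inr (h3.trans h2.symm)
    · rcases hab u hu with h3 | h3
      · exact Or.inr (h3.trans h2.symm)
      · exact Or.inl (h3.trans h1.symm)
    · exact absurd (h1.trans h2.symm) hzx
  refine ⟨?_, key ht hzt⟩
  rcases key ht hzt y hy with h1 | h1
  · exact absurd h1 hzy
  · exact cover_conj h1 hcov

/-- **The centralizer of a 2A-involution of the Monster.** -/
theorem main {Q : Subgroup Spor.Monster} {z : Spor.Monster} {eta : Spor.Monster → L2}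
    {pi : centralizer ({z} : Set Spor.Monster) →* Co1} (h : Chart Q z eta pi) {t : Spor.Monster} (ht : t ∈ Q)
    (h2 : IsType 2 (eta t)) :
    orderOf t = 2 ∧ ¬ IsConj z t ∧ commutator ↥(centralizer ({t} : Set Spor.Monster)) = ⊤ ∧
      Nat.card ↥(Subgroup.center ↥(centralizer ({t} : Set Spor.Monster))) = 2 ∧
      (Subgroup.center ↥(centralizer ({t} : Set Spor.Monster))).map (centralizer ({t} : Set Spor.Monster)).subtype =
        Subgroup.zpowers t ∧
      Nonempty (↥(centralizer ({t} : Set Spor.Monster)) ⧸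
        Subgroup.center ↥(centralizer ({t} : Set Spor.Monster)) ≃* Spor.BabyMonster) ∧
      ∀ u : Spor.Monster, orderOf u = 2 → IsConj u z ∨ IsConj u t := by
  have hfin := Cfsg.Agent.H848.MonsterSetup.finite
  have hsim := Cfsg.Agent.H848.MonsterSetup.simple
  obtain ⟨g, hg1, hg2, -⟩ := Cfsg.Agent.MonsterU.Fused.exists_type_four h
  obtain ⟨ht2, hzt⟩ := (Base.type_two_iff h ⟨g, hg1, hg2⟩ ht).1 h2
  obtain ⟨hcov, hall⟩ := involutions h ht2 hzt
  have hperf := perfect_of_cover nonab hcov
  obtain ⟨hc, he, -⟩ := hcov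
  refine ⟨ht2, hzt, hperf, hc, ?_, he, hall⟩
  have h3 : Subgroup.zpowers t ≤ (Subgroup.center ↥(centralizer ({t} : Set Spor.Monster))).map
      (centralizer ({t} : Set Spor.Monster)).subtype := by
    rw [Subgroup.zpowers_le]
    refine ⟨⟨t, mem_centralizer_singleton_iff.2 rfl⟩, ?_, rfl⟩
    rw [SetLike.mem_coe, Subgroup.mem_center_iff]
    intro c
    exact Subtype.ext (mem_centralizer_singleton_iff.1 c.2)
  symm
  apply Subgroup.eq_of_le_of_card_ge h3
  rw [Nat.card_zpowers, ht2,
    ← Nat.card_congr ((Subgroup.center ↥(centralizer ({t} : Set Spor.Monster))).equivMapOfInjective _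
      (Subgroup.subtype_injective _)).toEquiv, hc]

end Cfsg.Agent.H819.TwoACent
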