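import Cfsg.Agent.H819.TypeTwoB

/-!
# `C_G(t) / ⟨t⟩` is of Baby Monster type, `t ∈ Q` of type 2: the quotient `Co2` and the module (helper819)
-/

set_option autoImplicit false

namespace Cfsg.Agent.H819.TypeTwo

open Cfsg Cfsg.Spor Cfsg.Agent.MonsterU Cfsg.Agent.MonsterU.Lam2 Cfsg.Agent.MonsterU.Ch
open Cfsg.Agent.Co2Type.Quad Cfsg.Agent.LargeExtra.Base Cfsg.Agent.H819.Base
open Cfsg.Agent.LThreeMB (XX Zx self Zx_normal mk exists_mk mk_eq_one mk_mul mk_one mk_inv mk_congr conj_comm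
  exists_fac PB mem_PB PP mem_PP)
open Subgroup (centralizer zpowers mem_centralizer_singleton_iff)

/-! ### `Co2` as the stabiliser of the class of `leechU` in `Co1` -/

/-- `Co2 → Co0` -/
def iCo2 : ↥Spor.Co2 →* ↥Co0 := Subgroup.inclusion inf_le_left

/-- `Co2 → Co1` -/
def jCo2 : ↥Spor.Co2 →* Spor.Co1 := (QuotientGroup.mk' (Subgroup.center Co0)).comp iCo2

theorem jCo2_apply (g : ↥Spor.Co2) : jCo2 g = QuotientGroup.mk (iCo2 g) := rfl

theorem iCo2_smul (g : ↥Spor.Co2) (v : leechLattice) : iCo2 g • v = g • v := rfl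

theorem jCo2_smul (g : ↥Spor.Co2) (v : leechLattice) : jCo2 g • cl v = cl (g • v) := rfl

theorem iCo2_leechU (g : ↥Spor.Co2) : iCo2 g • leechU = leechU := MulAction.mem_stabilizer_iff.1 g.2.2

theorem leechU_ne_neg : (-leechU : leechLattice) ≠ leechU := by
  intro h
  have h1 := congrArg (fun u : leechLattice => (u : GolayPt → ℤ) none) h
  have h2 : -(vecU none) = vecU none := h1
  revert h2
  decide

theorem sqNorm_leechU : sqNorm (leechU : GolayPt → ℤ) = 32 := by
  show sqNorm vecU = 32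
  decide

theorem jCo2_injective : Function.Injective jCo2 := by
  rw [injective_iff_map_eq_one]
  intro g hg
  rw [jCo2_apply, QuotientGroup.eq_one_iff] at hg
  rcases Cfsg.Agent.SporadicA.Co0Basic.eq_one_or_neg_of_mem_center hg with h | h
  · have h1 : ((iCo2 g : Co0) : Equiv.Perm leechLattice) = 1 := congrArg Subtype.val h
    exact Subtype.ext h1
  · exfalso
    have h1 := iCo2_leechU g
    rw [h] at h1
    exact leechU_ne_neg h1

theorem exists_jCo2 {s : Spor.Co1} (hs : s • cl leechU = cl leechU) : ∃ g, jCo2 g = s := by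
  obtain ⟨t, rfl⟩ := QuotientGroup.mk_surjective s
  rw [mk_smul, smul_cl] at hs
  rcases Fused.eq_or_neg (by rw [Cfsg.Agent.LeechMat.Core.co0_sqNorm, sqNorm_leechU]) sqNorm_leechU hs with h | h
  · exact ⟨⟨t, t.2, MulAction.mem_stabilizer_iff.2 h⟩, rfl⟩
  · have h2 : (t * Cfsg.Agent.SporadicA.Co0Basic.negCo0) • leechU = leechU := by
      rw [mul_smul]
      have : Cfsg.Agent.SporadicA.Co0Basic.negCo0 • leechU = -leechU := rfl
      rw [this, SmallComm.smul_neg', h, neg_neg]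
    refine ⟨⟨(t * Cfsg.Agent.SporadicA.Co0Basic.negCo0 : Co0),
      (t * Cfsg.Agent.SporadicA.Co0Basic.negCo0 : Co0).2, MulAction.mem_stabilizer_iff.2 h2⟩, ?_⟩
    refine (QuotientGroup.eq.2 ?_)
    show (t * Cfsg.Agent.SporadicA.Co0Basic.negCo0)⁻¹ * t ∈ _
    rw [mul_inv_rev, inv_mul_cancel_right]
    apply Subgroup.inv_mem
    exact Cfsg.Agent.SporadicA.Co0Basic.negCo0_mem_center

theorem jCo2_fix (g : ↥Spor.Co2) : jCo2 g • cl leechU = cl leechU := by
  rw [jCo2_apply, mk_smul, smul_cl, iCo2_leechU]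

/-- `Co2` has no nontrivial normal 2-subgroup -/
theorem Co2_core (N : Subgroup ↥Spor.Co2) (hN : N.Normal) (h2 : IsPGroup 2 ↥N) : N = ⊥ := by
  have h3 := Fused.eq_bot_of_type_two type_leechU (N.map jCo2) (by
      rintro _ ⟨g, -, rfl⟩
      exact jCo2_fix g) (by
      rintro s hs _ ⟨n, hn, rfl⟩
      obtain ⟨g, rfl⟩ := exists_jCo2 hs
      exact ⟨g * n * g⁻¹, hN.conj_mem n hn g, by rw [map_mul, map_mul, map_inv]⟩) (h2.map jCo2)
  exact (Subgroup.map_eq_bot_iff_of_injective _ jCo2_injective).1 h3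

section chart

variable {G : Type*} [Group G] {P : Subgroup G} {z t : G} {eta : G → L2}
  {pi : Subgroup.centralizer ({z} : Set G) →* Co1}

/-- `C(z) ∩ C(t)` -/
abbrev CC (z t : G) : Type _ := ↥(centralizer ({z} : Set G) ⊓ centralizer ({t} : Set G))

theorem CC_z {z t : G} (g : CC z t) : (g : G) * z = z * g :=
  mem_centralizer_singleton_iff.1 (Subgroup.mem_inf.1 g.2).1

theorem CC_t {z t : G} (g : CC z t) : (g : G) * t = t * g :=
  mem_centralizer_singleton_iff.1 (Subgroup.mem_inf.1 g.2).2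

/-- the element of `C(z)` -/
def toC {z t : G} (g : CC z t) : ↥(centralizer ({z} : Set G)) := ⟨g, (Subgroup.mem_inf.1 g.2).1⟩

/-- `C(z) ∩ C(t) → C_X(z)` -/
def al (h : Chart P z eta pi) (ht : t ∈ P) : CC z t →* ↥(centralizer ({zb h ht} : Set (XX t))) where
  toFun g := ⟨mk t (CC_t g), mem_centralizer_singleton_iff.2 (by
    rw [zb, mk_mul (CC_t g) (zt h ht) (by rw [mul_assoc, zt h ht, ← mul_assoc, CC_t g, mul_assoc]),
      mk_mul (zt h ht) (CC_t g) (by rw [mul_assoc, CC_t g, ← mul_assoc, zt h ht, mul_assoc])]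
    exact mk_congr _ _ (CC_z g))⟩
  map_one' := rfl
  map_mul' _ _ := rfl

theorem al_coe (h : Chart P z eta pi) (ht : t ∈ P) (g : CC z t) :
    ((al h ht g : ↥(centralizer ({zb h ht} : Set (XX t)))) : XX t) = mk t (CC_t g) := rfl

theorem al_surj [Finite G] (h : Chart P z eta pi) (ht : t ∈ P) (h2 : IsType 2 (eta t)) :
    Function.Surjective (al h ht) := by
  rintro ⟨u, hu⟩
  obtain ⟨g, hg, rfl⟩ := exists_mk u
  have hgz := comm_z_of_comm h ht h2 hg (mem_centralizer_singleton_iff.1 hu)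
  exact ⟨⟨g, Subgroup.mem_inf.2 ⟨mem_centralizer_singleton_iff.2 hgz, mem_centralizer_singleton_iff.2 hg⟩⟩, rfl⟩

theorem al_eq_one (h : Chart P z eta pi) (ht : t ∈ P) (h2 : IsType 2 (eta t)) {g : CC z t} :
    al h ht g = 1 ↔ (g : G) = 1 ∨ (g : G) = t := by
  rw [← mk_eq_one' (t_sq h ht h2) (CC_t g)]
  exact Subtype.ext_iff

theorem fix_t (h : Chart P z eta pi) (ht : t ∈ P) (g : CC z t) : pi (toC g) • eta t = eta t := by
  rw [← h.eta_conj (toC g) t ht]
  congr 1
  show (g : G) * t * (g : G)⁻¹ = t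
  rw [CC_t g]; group

/-- `C(z) ∩ C(t) → Co2` -/
theorem exists_be (h : Chart P z eta pi) (ht : t ∈ P) (hu : eta t = cl leechU) :
    ∃ β : CC z t →* ↥Spor.Co2, (∀ g, jCo2 (β g) = pi (toC g)) ∧ Function.Surjective β ∧ ∀ g, β g = 1 ↔ (g : G) ∈ P := by
  choose f hf using fun g : CC z t => exists_jCo2 (by rw [← hu]; exact fix_t h ht g)
  let β : CC z t →* ↥Spor.Co2 :=
    { toFun := f
      map_one' := jCo2_injective (by rw [hf, map_one]; exact map_one pi)
      map_mul' := fun a b => jCo2_injective (by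
        rw [hf, map_mul, hf, hf, ← map_mul]; rfl) }
  have hβ : ∀ g, jCo2 (β g) = pi (toC g) := hf
  refine ⟨β, hβ, ?_, ?_⟩
  · intro s
    have hty : t ≠ 1 := by
      rintro rfl
      rw [h.eta_one] at hu
      exact ne_zero_of_type (Or.inl rfl) type_leechU hu.symm
    have htz : t ≠ z := by
      rintro rfl
      rw [h.eta_z] at hu
      exact ne_zero_of_type (Or.inl rfl) type_leechU hu.symm
    obtain ⟨c, hct, hc⟩ := Fused.exists_lift h ht hty htz (s := jCo2 s) (by rw [hu]; exact jCo2_fix s)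
    refine ⟨⟨c, Subgroup.mem_inf.2 ⟨c.2, mem_centralizer_singleton_iff.2 hct⟩⟩, jCo2_injective ?_⟩
    rw [hβ, ← hc]
    rfl
  · intro g
    have h0 : pi (toC g) = 1 ↔ (g : G) ∈ P := h.pi_eq_one (toC g)
    rw [← h0, ← hβ]
    constructor
    · intro h1; rw [h1, map_one]
    · intro h1; exact jCo2_injective (by rw [h1, map_one])

/-- **`C_X(z) → Co2`, with kernel the image of `C_P(t)`.** -/
theorem exists_rho [Finite G] (h : Chart P z eta pi) (ht : t ∈ P) (hu : eta t = cl leechU) :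
    ∃ ρ : ↥(centralizer ({zb h ht} : Set (XX t))) →* ↥Spor.Co2, Function.Surjective ρ ∧
      (∀ g, jCo2 (ρ (al h ht g)) = pi (toC g)) ∧
      ρ.ker = (PB P t).subgroupOf (centralizer ({zb h ht} : Set (XX t))) := by
  have h2 : IsType 2 (eta t) := by rw [hu]; exact type_leechU
  obtain ⟨β, hβ, hβs, hβ1⟩ := exists_be h ht hu
  obtain ⟨ρ, hρ⟩ := exists_fac (al h ht) (al_surj h ht h2) β (by
    intro g hg
    rw [hβ1]
    rcases (al_eq_one h ht h2).1 hg with h3 | h3
    · rw [h3]; exact P.one_mem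
    · rw [h3]; exact ht)
  refine ⟨ρ, ?_, ?_, ?_⟩
  · intro s
    obtain ⟨g, rfl⟩ := hβs s
    exact ⟨al h ht g, hρ g⟩
  · intro g
    rw [hρ, hβ]
  · ext u
    obtain ⟨g, rfl⟩ := al_surj h ht h2 u
    rw [MonoidHom.mem_ker, hρ, hβ1, Subgroup.mem_subgroupOf, al_coe, mem_PB]
    constructor
    · intro hg
      exact ⟨g, CC_t g, hg, rfl⟩
    · rintro ⟨q, hq, hqP, hqg⟩
      rcases (mk_eq_mk' (t_sq h ht h2) hq (CC_t g)).1 hqg with h3 | h3
      · rw [h3]; exact hqP
      · rw [h3]; exact P.mul_mem hqP ht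

/-! ### The module -/

/-- `y ∈ C_P(t)` over `v` has image `r` -/
def RelE (P : Subgroup G) (eta : G → L2) (t : G) (r : XX t) (v : L2) : Prop :=
  ∃ (y : G) (hy : y * t = t * y), y ∈ P ∧ mk t hy = r ∧ eta y = v

theorem RelE.mul (h : Chart P z eta pi) {r r' : XX t} {v v' : L2} (h1 : RelE P eta t r v) (h2 : RelE P eta t r' v') :
    RelE P eta t (r * r') (v + v') := by
  obtain ⟨y, hy, hyP, rfl, rfl⟩ := h1
  obtain ⟨y', hy', hyP', rfl, rfl⟩ := h2
  exact ⟨y * y', by rw [mul_assoc, hy', ← mul_assoc, hy, mul_assoc], P.mul_mem hyP hyP', rfl, h.eta_mul y hyP y' hyP'⟩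

theorem RelE.eq (h : Chart P z eta pi) (ht : t ∈ P) {r r' : XX t} {v : L2} (h1 : RelE P eta t r v)
    (h2 : RelE P eta t r' v) : r = r' ∨ r = r' * zb h ht := by
  obtain ⟨y, hy, hyP, rfl, rfl⟩ := h1
  obtain ⟨y', hy', hyP', rfl, hyy⟩ := h2
  rcases (h.eta_eq hyP hyP').1 hyy.symm with h3 | h3
  · left; exact mk_congr _ _ h3
  · right
    have h4 : (y' * z) * t = t * (y' * z) := by rw [mul_assoc, zt h ht, ← mul_assoc, hy', mul_assoc]
    rw [zb, mk_mul hy' (zt h ht) h4]
    exact mk_congr _ _ h3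

theorem RelE.zb (h : Chart P z eta pi) (ht : t ∈ P) : RelE P eta t (zb h ht) 0 :=
  ⟨z, zt h ht, h.large.z_mem, rfl, h.eta_z⟩

theorem RelE.one_iff (h : Chart P z eta pi) (ht : t ∈ P) (h2 : IsType 2 (eta t)) {v : L2} :
    RelE P eta t 1 v ↔ v = 0 ∨ v = eta t := by
  constructor
  · rintro ⟨y, hy, hyP, hy1, rfl⟩
    rcases (mk_eq_one' (t_sq h ht h2) hy).1 hy1 with h3 | h3
    · left; rw [h3]; exact h.eta_one
    · right; rw [h3]
  · rintro (rfl | rfl)
    · exact ⟨1, by rw [one_mul, mul_one], P.one_mem, rfl, h.eta_one⟩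
    · exact ⟨t, rfl, ht, (mk_eq_one' (t_sq h ht h2) rfl).2 (Or.inr rfl), rfl⟩

theorem RelE.conj (h : Chart P z eta pi) (g : CC z t) {r : XX t} {v : L2} (h1 : RelE P eta t r v) :
    RelE P eta t (mk t (CC_t g) * r * (mk t (CC_t g))⁻¹) (pi (toC g) • v) := by
  obtain ⟨y, hy, hyP, rfl, rfl⟩ := h1
  exact ⟨g * y * (g : G)⁻¹, conj_comm (CC_t g) hy, h.large.conj_mem g (CC_z g) y hyP, rfl, h.eta_conj (toC g) y hyP⟩

theorem RelE.exists_of (h : Chart P z eta pi) (ht : t ∈ P) {v : L2} (hv : bf (eta t) v = 0) :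
    ∃ r ∈ PB P t, RelE P eta t r v := by
  obtain ⟨y, hy, rfl⟩ := h.eta_surj v
  have hyt : y * t = t * y := ((h.comm_iff ht hy).2 hv).symm
  exact ⟨mk t hyt, mem_PB.2 ⟨y, hyt, hy, rfl⟩, y, hyt, hy, rfl, rfl⟩

theorem RelE.of_mem (h : Chart P z eta pi) (ht : t ∈ P) {r : XX t} (hr : r ∈ PB P t) :
    ∃ v, bf (eta t) v = 0 ∧ RelE P eta t r v := by
  obtain ⟨y, hy, hyP, rfl⟩ := mem_PB.1 hr
  exact ⟨eta y, (h.comm_iff ht hyP).1 hy.symm, y, hy, hyP, rfl, rfl⟩

theorem perp_iff (x : leechLattice) : bf (cl leechU) (cl x) = 0 ↔ x ∈ leechPerpU := by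
  rw [bf_cl_eq_zero]
  show (16 : ℤ) ∣ dotInt vecU (x : GolayPt → ℤ) ↔ (16 : ℤ) ∣ dotInt (x : GolayPt → ℤ) vecU
  have : dotInt vecU (x : GolayPt → ℤ) = dotInt (x : GolayPt → ℤ) vecU := by
    simp only [dotInt, mul_comm]
  rw [this]

/-- **`C_G(t) / ⟨t⟩` is of Baby Monster type**, `eta t` the class of `leechU`. -/
theorem main_aux [Finite G] (h : Chart P z eta pi) (hf : ∃ g : G, g * z * g⁻¹ ∈ P ∧ g * z * g⁻¹ ≠ z)
    (ht : t ∈ P) (hu : eta t = cl leechU) : IsOfBabyMonsterType (XX t) := by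
  have h2 : IsType 2 (eta t) := by rw [hu]; exact type_leechU
  have L := large h ht h2
  have hn : ((PB P t).subgroupOf (centralizer ({zb h ht} : Set (XX t)))).Normal := LargeExtra.Nine.ToCent.normal L
  obtain ⟨ρ, hρ, hρj, hk⟩ := exists_rho h ht hu
  have hfin : Finite (XX t) := Quotient.finite _
  have hF := Setting.genFitting_of L ρ hρ hk Co2_core
  have hset := Setting.setting_of L (w := 11) (by norm_num) (card_PB h ht h2) hF (exists_fus_zb h hf ht h2)
  obtain ⟨e, he⟩ := Setting.exists_equiv (P := PB P t) ρ hρ hk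
  refine ⟨zb h ht, (PB P t).subgroupOf (centralizer ({zb h ht} : Set (XX t))), hn, hset, e, ?_⟩
  -- the map `ψ`
  have hle := LargeExtra.Nine.ToCent.le_cent L
  have hex : ∀ x : leechPerpU, ∃ r : ↥((PB P t).subgroupOf (centralizer ({zb h ht} : Set (XX t)))),
      RelE P eta t ((r : ↥(centralizer ({zb h ht} : Set (XX t)))) : XX t) (cl (x : leechLattice)) := by
    intro x
    obtain ⟨r, hr, hrx⟩ := RelE.exists_of h ht (v := cl (x : leechLattice)) (by rw [hu]; exact (perp_iff x).2 x.2)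
    exact ⟨⟨⟨r, hle hr⟩, Subgroup.mem_subgroupOf.2 hr⟩, hrx⟩
  choose f hf' using hex
  have hcen : ∀ q : ↥((PB P t).subgroupOf (centralizer ({zb h ht} : Set (XX t)))),
      q ∈ Subgroup.center ↥((PB P t).subgroupOf (centralizer ({zb h ht} : Set (XX t)))) ↔
        ((q : ↥(centralizer ({zb h ht} : Set (XX t)))) : XX t) = 1 ∨
        ((q : ↥(centralizer ({zb h ht} : Set (XX t)))) : XX t) = zb h ht := by
    intro q
    constructor
    · intro hq
      refine L.cent _ (Subgroup.mem_subgroupOf.1 q.2) ?_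
      intro y hy
      have := Subgroup.mem_center_iff.1 hq ⟨⟨y, hle hy⟩, Subgroup.mem_subgroupOf.2 hy⟩
      exact (congrArg (fun y : ↥((PB P t).subgroupOf (centralizer ({zb h ht} : Set (XX t)))) =>
        ((y : ↥(centralizer ({zb h ht} : Set (XX t)))) : XX t)) this).symm
    · rintro (hq | hq)
      · have : q = 1 := Subtype.ext (Subtype.ext hq)
        rw [this]; exact Subgroup.one_mem _
      · rw [Subgroup.mem_center_iff]
        intro y
        apply Subtype.ext
        apply Subtype.ext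
        show ((y : ↥(centralizer ({zb h ht} : Set (XX t)))) : XX t) * ((q : ↥(centralizer ({zb h ht} : Set (XX t)))) : XX t) =
          ((q : ↥(centralizer ({zb h ht} : Set (XX t)))) : XX t) * ((y : ↥(centralizer ({zb h ht} : Set (XX t)))) : XX t)
        rw [hq]; exact L.comm_z _ (Subgroup.mem_subgroupOf.1 y.2)
  have key : ∀ (x : leechPerpU) (q : ↥((PB P t).subgroupOf (centralizer ({zb h ht} : Set (XX t))))),
      (QuotientGroup.mk (f x) : ↥((PB P t).subgroupOf (centralizer ({zb h ht} : Set (XX t)))) ⧸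
        Subgroup.center ↥((PB P t).subgroupOf (centralizer ({zb h ht} : Set (XX t))))) = QuotientGroup.mk q ↔
      RelE P eta t ((q : ↥(centralizer ({zb h ht} : Set (XX t)))) : XX t) (cl (x : leechLattice)) := by
    intro x q
    rw [QuotientGroup.eq, hcen]
    constructor
    · intro h3
      have h4 : ((q : ↥(centralizer ({zb h ht} : Set (XX t)))) : XX t) =
          ((f x : ↥(centralizer ({zb h ht} : Set (XX t)))) : XX t) *
            (((f x)⁻¹ * q : ↥((PB P t).subgroupOf (centralizer ({zb h ht} : Set (XX t))))) :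
              ↥(centralizer ({zb h ht} : Set (XX t)))) := by
        show _ = ((f x : ↥(centralizer ({zb h ht} : Set (XX t)))) : XX t) *
          (((f x : ↥(centralizer ({zb h ht} : Set (XX t)))) : XX t)⁻¹ *
            ((q : ↥(centralizer ({zb h ht} : Set (XX t)))) : XX t))
        rw [mul_inv_cancel_left]
      rcases h3 with h3 | h3
      · rw [h4, h3, mul_one]; exact hf' x
      · rw [h4, h3]
        have h5 := RelE.mul h (hf' x) (RelE.zb h ht)
        rwa [add_zero] at h5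
    · intro h3
      have h4 : (((f x)⁻¹ * q : ↥((PB P t).subgroupOf (centralizer ({zb h ht} : Set (XX t))))) :
              ↥(centralizer ({zb h ht} : Set (XX t)))) =
          (((f x : ↥(centralizer ({zb h ht} : Set (XX t)))) )⁻¹ *
            ((q : ↥(centralizer ({zb h ht} : Set (XX t)))) )) := rfl
      rcases RelE.eq h ht h3 (hf' x) with h5 | h5
      · left
        rw [h4, Subgroup.coe_mul, h5]
        exact inv_mul_cancel _
      · right
        rw [h4, Subgroup.coe_mul, h5]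
        exact inv_mul_cancel_left _ _
  refine ⟨fun x => QuotientGroup.mk (f x), ?_, ?_, ?_, ?_⟩
  · intro x y
    show (QuotientGroup.mk (f (x + y)) : _ ⧸ _) = QuotientGroup.mk (f x * f y)
    rw [key]
    have := RelE.mul h (hf' x) (hf' y)
    rw [← map_add] at this
    exact this
  · intro q
    obtain ⟨q, rfl⟩ := QuotientGroup.mk_surjective q
    obtain ⟨v, hv, hvr⟩ := RelE.of_mem h ht (Subgroup.mem_subgroupOf.1 q.2)
    obtain ⟨x, rfl⟩ := cl_surjective v
    rw [hu, perp_iff] at hv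
    exact ⟨⟨x, hv⟩, (key ⟨x, hv⟩ q).2 hvr⟩
  · intro x
    show (QuotientGroup.mk (f x) : _ ⧸ _) = QuotientGroup.mk 1 ↔ _
    rw [key]
    show RelE P eta t 1 (cl (x : leechLattice)) ↔ _
    rw [RelE.one_iff h ht h2, hu, cl_eq_zero, cl_eq]
    constructor
    · rintro (⟨u, hu'⟩ | ⟨u, hu'⟩)
      · left; exact ⟨u, by rw [hu', two_nsmul]⟩
      · right; exact ⟨u, by rw [← two_nsmul, ← hu', add_sub_cancel]⟩
    · rintro (⟨u, hu'⟩ | ⟨u, hu'⟩)
      · left; exact ⟨u, by rw [hu', two_nsmul]⟩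
      · right; exact ⟨u, by rw [hu', add_sub_cancel_left, two_nsmul]⟩
  · intro c g hcg x y hxy q hq
    rw [he] at hcg
    obtain ⟨k, rfl⟩ := al_surj h ht h2 c
    have hq' := (key x q).1 hq
    apply (key y _).2
    have h3 := RelE.conj h k hq'
    have h4 : pi (toC k) • cl (x : leechLattice) = cl (y : leechLattice) := by
      rw [← hρj, hcg, jCo2_smul, hxy]
    rw [h4] at h3
    exact h3

/-- **`C_G(t) / ⟨t⟩` is of Baby Monster type.** -/
theorem main [Finite G] (h : Chart P z eta pi) (hf : ∃ g : G, g * z * g⁻¹ ∈ P ∧ g * z * g⁻¹ ≠ z)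
    (ht : t ∈ P) (h2 : IsType 2 (eta t)) : IsOfBabyMonsterType (XX t) := by
  obtain ⟨g, hg⟩ := IsType.trans (Or.inl rfl) h2 type_leechU
  exact main_aux (h.smul (QuotientGroup.mk g)) hf ht hg

end chart

end Cfsg.Agent.H819.TypeTwo
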