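import Cfsg.Agent.H819.LiftOct
import Cfsg.Agent.MonsterU.InvPairQ

/-!
# Lifts of the sign changes on octads which are not conjugate to `z` (helper819)

`TwoA h r` : `r` is an involution of `C(z)`, commutes with every element of `Q` with a fixed class, and is not
conjugate to `z`.

* `exists_twoA` : over every element of `Co1` conjugate to the sign change on an octad there is such an `r`.
-/

set_option autoImplicit false

namespace Cfsg.Agent.H819.LiftTwoA

open Cfsg
open Cfsg.Agent.SporadicA.Co0Mono (signCo0)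
open Cfsg.Agent.SporadicA.Co1Simple (allOne)
open Cfsg.Agent.CoOneType.CoOneE (pr E)
open Cfsg.Agent.CoOneType.SignFacts (sup wt wt_cases mem_sup notMem_sup wt_add_allOne)
open Cfsg.Agent.MonsterU.Lam2 (L2 cl cl_surjective bf qf bf_add_left bf_add_right bf_comm bf_self add_self
  qf_zero IsType qf_cl_eq_zero bf_nondeg cl_sub)
open Cfsg.Agent.MonsterU.CoFrame (V23 coe_e8 u0)
open Cfsg.Agent.MonsterU.CoFrameAct (cong_e8 u0_coe)
open Cfsg.Agent.MonsterU.CoFrameL2 (f0 W1 W12 W23 F cl_mem_W23 cong_iff_cl pr_smul_cl)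
open Cfsg.Agent.MonsterU.AmalGen (pre mem_pre EE Eab)
open Cfsg.Agent.MonsterU.AmalInf (AA mem_AA CA)
open Cfsg.Agent.MonsterU.Ch
open Cfsg.Agent.MonsterU
open Cfsg.Agent.H821.Frame (Good)
open Cfsg.Agent.SporadicStructure.Co0Base (e8)
open Cfsg.Spor (Co1)

/-! ### Lattice facts -/

/-- the vector `2_O` -/
theorem octVec_mem (c : golayCode) (hc : wt c = 8) : (fun i => if i ∈ sup c then (2 : ℤ) else 0) ∈ leechLattice := by
  rw [SporadicStructure.LeechBase.mem_leech_iff]
  refine ⟨0, fun i => if i ∈ sup c then 1 else 0, ?_, ?_, fun i => ?_⟩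
  · have : SporadicStructure.LeechBase.red (fun i => if i ∈ sup c then (1 : ℤ) else 0) =
        (c : GolayPt → ZMod 2) := by
      funext i
      rw [SporadicStructure.LeechBase.red_apply]
      by_cases h : i ∈ sup c
      · rw [if_pos h, (mem_sup c i).1 h]; rfl
      · rw [if_neg h, (notMem_sup c i).1 h]; rfl
    rw [this]
    exact c.2
  · rw [Finset.sum_ite_mem, Finset.univ_inter, Finset.sum_const, nsmul_eq_mul]
    unfold wt at hc
    rw [hc]
    decide
  · show (if i ∈ sup c then (2 : ℤ) else 0) = 0 + 2 * (if i ∈ sup c then 1 else 0)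
    by_cases h : i ∈ sup c
    · rw [if_pos h, if_pos h]; norm_num
    · rw [if_neg h, if_neg h]; norm_num

/-- the vector `2_O` -/
def octVec (c : golayCode) (hc : wt c = 8) : leechLattice := ⟨_, octVec_mem c hc⟩

theorem octVec_coe {c : golayCode} (hc : wt c = 8) (i : GolayPt) :
    ((octVec c hc : leechLattice) : GolayPt → ℤ) i = if i ∈ sup c then 2 else 0 := rfl

theorem octVec_mem_V23 {c : golayCode} (hc : wt c = 8) : octVec c hc ∈ V23 := by
  intro i
  rw [octVec_coe]
  split_ifs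
  · exact dvd_refl _
  · exact dvd_zero _

theorem octVec_two {c : golayCode} (hc : wt c = 8) : IsType 2 (cl (octVec c hc)) := by
  refine ⟨octVec c hc, ?_, rfl⟩
  show ∑ i, ((octVec c hc : leechLattice) : GolayPt → ℤ) i ^ 2 = _
  have : ∀ i, ((octVec c hc : leechLattice) : GolayPt → ℤ) i ^ 2 = if i ∈ sup c then 4 else 0 := by
    intro i
    rw [octVec_coe]
    split_ifs <;> norm_num
  rw [Finset.sum_congr rfl fun i _ => this i, Finset.sum_ite_mem, Finset.univ_inter, Finset.sum_const,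
    nsmul_eq_mul]
  unfold wt at hc
  rw [hc]; norm_num

theorem octVec_four {c : golayCode} (hc : wt c = 8) : IsType 4 (cl (octVec c hc) + f0) := by
  obtain ⟨j, hj⟩ : ∃ j, j ∈ sup c := by
    have : (sup c).Nonempty := by
      rw [← Finset.card_pos]; unfold wt at hc; omega
    exact this
  refine ⟨octVec c hc - e8 j, ?_, ?_⟩
  · show ∑ i, ((octVec c hc - e8 j : leechLattice) : GolayPt → ℤ) i ^ 2 = _
    have : ∀ i, ((octVec c hc - e8 j : leechLattice) : GolayPt → ℤ) i ^ 2 =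
        (if i ∈ sup c then 4 else 0) + (if i = j then 32 else 0) := by
      intro i
      rw [CoFrameAct.coe_sub', octVec_coe, coe_e8]
      by_cases h : i = j
      · subst h
        rw [if_pos hj, if_pos rfl, if_pos rfl, if_pos hj]; norm_num
      · rw [if_neg h, if_neg h]
        split_ifs <;> norm_num
    rw [Finset.sum_congr rfl fun i _ => this i, Finset.sum_add_distrib, Finset.sum_ite_mem, Finset.univ_inter,
      Finset.sum_const, nsmul_eq_mul, Finset.sum_ite_eq', if_pos (Finset.mem_univ _)]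
    unfold wt at hc
    rw [hc]; norm_num
  · rw [cl_sub]
    congr 1
    exact (cong_iff_cl _ _).1 (cong_e8 j none)

/-- a commutator of a sign change on a dodecad which is not singular -/
theorem qf_comm_dodecad {c : golayCode} (hc : wt c = 12) : ∃ x : L2, qf (pr (signCo0 c) • x + x) ≠ 0 := by
  refine ⟨cl u0, ?_⟩
  rw [pr_smul_cl, LiftLat.cl_sign_add, Ne, qf_cl_eq_zero, LiftLat.sqNorm_sign_sub]
  have h1 : (8 : ℤ) ∣ ∑ i ∈ sup c, ((u0 : GolayPt → ℤ) i ^ 2 - 1) := by
    refine Finset.dvd_sum fun i _ => ?_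
    rw [u0_coe]
    split_ifs <;> norm_num
  have h2 : ∑ i ∈ sup c, (u0 : GolayPt → ℤ) i ^ 2 =
      ∑ i ∈ sup c, ((u0 : GolayPt → ℤ) i ^ 2 - 1) + ((sup c).card : ℤ) := by
    rw [Finset.sum_sub_distrib, Finset.sum_const, nsmul_eq_mul]; ring
  have h4 : ((sup c).card : ℤ) = 12 := by exact_mod_cast hc
  rw [h2, h4]
  omega

theorem not_two_zero {x : L2} (h : IsType 2 x) : x ≠ 0 := by
  rintro rfl
  obtain ⟨v, hv, hv0⟩ := h
  obtain ⟨u, hu⟩ := Lam2.cl_eq_zero.1 hv0
  rw [hu, InvPair.norm_two] at hv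
  rcases InvPair.norm_cases u with h1 | h1
  · rw [h1, InvPair.norm_zero] at hv
    norm_num at hv
  · omega

/-! ### The lift -/

variable {G : Type*} [Group G] {Q : Subgroup G} {z : G} {eta : G → L2}
  {pi : Subgroup.centralizer ({z} : Set G) →* Co1}

/-- an involution of `C(z)` commuting with every element of `Q` with a fixed class and not conjugate to `z` -/
structure TwoA (_h : Chart Q z eta pi) (r : Subgroup.centralizer ({z} : Set G)) : Prop where
  sq : (r : G) * r = 1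
  comm : ∀ q ∈ Q, pi r • eta q = eta q → (r : G) * q = q * r
  notConj : ¬ ∃ g : G, g * z * g⁻¹ = r

theorem exists_z_comm (h : Chart Q z eta pi) {y : G} (hy : y ∈ Q) (hy0 : eta y ≠ 0) :
    ∃ q ∈ Q, q * y = y * q * z := by
  by_contra hn
  push Not at hn
  apply hy0
  apply bf_nondeg
  intro w
  obtain ⟨q, hq, rfl⟩ := h.eta_surj w
  have h1 := (h.large.comm q hq y hy).resolve_right (hn q hq)
  exact (h.comm_iff hy hq).1 h1.symm

section good

variable {h : Chart Q z eta pi} {s τ : G} (gd : Good h s τ)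
include gd

/-- the elements of type four are conjugate to `z` -/
theorem conj_of_type_four {p : G} (hp : p ∈ Q) (h4 : IsType 4 (eta p)) (hp0 : eta p ≠ 0) :
    ∃ g : G, g * z * g⁻¹ = p := by
  obtain ⟨σ, hσ⟩ := IsType.trans (Or.inr (Or.inr rfl)) H821.Frame.type_f0 h4
  obtain ⟨k, hk⟩ := h.pi_surj (QuotientGroup.mk σ)
  have hkz := Subgroup.mem_centralizer_singleton_iff.1 k.2
  have h1 := h.large.conj_mem k hkz s gd.mem
  have h2 : eta ((k : G) * s * (k : G)⁻¹) = eta p := by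
    rw [h.eta_conj k s gd.mem, hk, gd.eq]
    exact hσ
  rcases (h.eta_eq h1 hp).1 h2 with h3 | h3
  · refine ⟨k * τ, ?_⟩
    rw [← h3, ← gd.τz]; group
  · obtain ⟨q, hq, hqp⟩ := exists_z_comm h hp hp0
    refine ⟨q⁻¹ * (k * τ), ?_⟩
    have hqz := h.large.comm_z q hq
    have hpz := h.large.comm_z p hp
    calc q⁻¹ * (k * τ) * z * (q⁻¹ * (k * τ))⁻¹ = q⁻¹ * (k * (τ * z * τ⁻¹) * (k : G)⁻¹) * q := by group
      _ = q⁻¹ * (p * z) * q := by rw [gd.τz, h3]
      _ = q⁻¹ * (p * (z * q)) := by group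
      _ = q⁻¹ * (p * q * z) := by rw [← hqz]; group
      _ = q⁻¹ * (q * p) := by rw [← hqp]
      _ = p := by group

/-- **The conjugate of a short element.** -/
theorem exists_lift_short [Finite G] {p : G} (hp : p ∈ Q) (h2 : IsType 2 (eta p)) (h23 : eta p ∈ W23)
    (h4 : IsType 4 (eta p + f0)) :
    ∃ r : Subgroup.centralizer ({z} : Set G), pi r ∈ E ∧ TwoA h r ∧ (r : G) ≠ z ∧ (r : G) ≠ 1 := by
  have hps := (AmalGen.comm_y h gd.mem gd.eq hp).2 h23
  have hpz := h.large.comm_z p hp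
  have τz' := AmalInf.τz' h gd.mem gd.eq gd.τz gd.τs
  have hrz : τ * p * τ⁻¹ * z = z * (τ * p * τ⁻¹) := by
    calc τ * p * τ⁻¹ * z = τ * (p * (τ⁻¹ * z * τ)) * τ⁻¹ := by group
      _ = τ * (p * z * s) * τ⁻¹ := by rw [τz']; group
      _ = τ * (z * (p * s)) * τ⁻¹ := by rw [hpz]; group
      _ = τ * ((z * s) * p) * τ⁻¹ := by rw [hps]; group
      _ = τ * ((τ⁻¹ * z * τ) * p) * τ⁻¹ := by rw [τz']
      _ = z * (τ * p * τ⁻¹) := by group
  have hrc : τ * p * τ⁻¹ ∈ Subgroup.centralizer ({z} : Set G) := Subgroup.mem_centralizer_singleton_iff.2 hrz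
  have hrCA : τ * p * τ⁻¹ ∈ CA Q z τ := by
    refine ⟨mem_AA.2 ?_, hrc⟩
    have : τ⁻¹ * (τ * p * τ⁻¹) * τ = p := by group
    rwa [this]
  have hp2 : p * p = 1 := by
    rw [h.sq_one hp, qf_of_type h2]; rfl
  have hsq : τ * p * τ⁻¹ * (τ * p * τ⁻¹) = 1 := by
    calc τ * p * τ⁻¹ * (τ * p * τ⁻¹) = τ * (p * p) * τ⁻¹ := by group
      _ = 1 := by rw [hp2]; group
  -- `p` is not conjugate to `z`
  have hpn : ∀ g : G, g * z * g⁻¹ ≠ p := by
    intro g hg
    by_cases hpz1 : p = z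
    · rw [hpz1, h.eta_z] at h2
      exact not_two_zero h2 rfl
    · refine Fused.not_type_two h (g := g) ?_ ?_ ?_
      · rw [hg]; exact hp
      · rw [hg]; exact hpz1
      · rw [hg]; exact h2
  have hnot : ¬ ∃ g : G, g * z * g⁻¹ = τ * p * τ⁻¹ := by
    rintro ⟨g, hg⟩
    apply hpn (τ⁻¹ * g)
    calc τ⁻¹ * g * z * (τ⁻¹ * g)⁻¹ = τ⁻¹ * (g * z * g⁻¹) * τ := by group
      _ = p := by rw [hg]; group
  -- `r z` is conjugate to `z`
  have hrzc : ∃ g : G, g * z * g⁻¹ = τ * p * τ⁻¹ * z := by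
    have hps' : eta (p * (z * s)) = eta p + f0 := by
      rw [h.eta_mul p hp _ (Q.mul_mem h.large.z_mem gd.mem), h.eta_mul z h.large.z_mem s gd.mem, h.eta_z,
        zero_add, gd.eq]
    obtain ⟨g, hg⟩ := conj_of_type_four gd (Q.mul_mem hp (Q.mul_mem h.large.z_mem gd.mem))
      (by rw [hps']; exact h4) (by
        rw [hps']
        intro e
        have : eta p = f0 := Lam2.eq_of_add_eq_zero e
        rw [this] at h2
        exact InvPair.not_two_four h2 H821.Frame.type_f0)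
    refine ⟨τ * g, ?_⟩
    calc τ * g * z * (τ * g)⁻¹ = τ * (g * z * g⁻¹) * τ⁻¹ := by group
      _ = τ * (p * (τ⁻¹ * z * τ)) * τ⁻¹ := by rw [hg, τz']
      _ = τ * p * τ⁻¹ * z := by group
  refine ⟨⟨τ * p * τ⁻¹, hrc⟩, AmalInf.pi_CA_mem_E h gd.mem gd.eq gd.τz gd.τs hrCA hrc, ⟨hsq, ?_, hnot⟩, ?_, ?_⟩
  · intro q hq hqf
    rcases LiftOct.comm_cases h hq hqf with h1 | h1
    · exact h1
    · exfalso
      obtain ⟨g, hg⟩ := hrzc
      apply hnot
      refine ⟨q * g, ?_⟩
      have hqz := h.large.comm_z q hq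
      have h1' : τ * p * τ⁻¹ * q = q * (τ * p * τ⁻¹) * z := h1
      calc q * g * z * (q * g)⁻¹ = q * (g * z * g⁻¹) * q⁻¹ := by group
        _ = q * (τ * p * τ⁻¹) * z * q⁻¹ := by rw [hg]; group
        _ = τ * p * τ⁻¹ := by rw [← h1']; group
  · intro e
    apply hnot
    exact ⟨1, by rw [one_mul, inv_one, mul_one]; exact e.symm⟩
  · intro e
    have e' : τ * p * τ⁻¹ = 1 := e
    have hp1 : p = 1 := by
      calc p = τ⁻¹ * (τ * p * τ⁻¹) * τ := by group
        _ = 1 := by rw [e']; group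
    rw [hp1, h.eta_one] at h2
    exact not_two_zero h2 rfl

/-- an octad with a good lift -/
theorem exists_oct [Finite G] : ∃ (c : golayCode) (r : Subgroup.centralizer ({z} : Set G)),
    wt c = 8 ∧ pi r = pr (signCo0 c) ∧ TwoA h r := by
  obtain ⟨c₀, hc₀, -⟩ := CoFrameSep.exists_octad none none
  obtain ⟨p, hp, hpc⟩ := h.eta_surj (cl (octVec c₀ hc₀))
  obtain ⟨r, ⟨c, hc⟩, hr, hrz, hr1⟩ := exists_lift_short gd hp (by rw [hpc]; exact octVec_two hc₀)
    (by rw [hpc]; exact cl_mem_W23.2 (octVec_mem_V23 hc₀)) (by rw [hpc]; exact octVec_four hc₀)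
  -- `pi r ≠ 1`
  have hne : pi r ≠ 1 := by
    intro e
    have h1 := (h.pi_eq_one r).1 e
    rcases h.large.cent r h1 (fun q hq => hr.comm q hq (by rw [e, one_smul])) with h2 | h2
    · exact hr1 h2
    · exact hrz h2
  have hzero : wt (0 : golayCode) = 0 := by
    unfold wt
    rw [Finset.card_eq_zero, Finset.eq_empty_iff_forall_notMem]
    intro i
    rw [notMem_sup]; rfl
  have hadd : pr (signCo0 (c + allOne)) = pr (signCo0 c) := by
    rw [CoOneType.CoOneE.pr_sign_eq_iff, add_assoc, CoOneType.CoOneE.allOne_add_self, add_zero]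
    exact Or.inr rfl
  have hwt := wt_add_allOne c
  have key0 : ∀ d : golayCode, wt d = 0 → pr (signCo0 d) = 1 := by
    intro d hd
    have : d = 0 := by
      apply Subtype.ext
      funext i
      unfold wt at hd
      rw [Finset.card_eq_zero] at hd
      apply (notMem_sup d i).1
      rw [hd]
      exact Finset.notMem_empty i
    rw [this, SporadicA.Co0Mono.signCo0_zero, map_one]
  rcases wt_cases c with h1 | h1 | h1 | h1 | h1
  · exfalso
    apply hne
    rw [hc, key0 c h1]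
  · exact ⟨c, r, h1, hc, hr⟩
  · exfalso
    obtain ⟨x, hx⟩ := qf_comm_dodecad h1
    rw [← hc] at hx
    obtain ⟨q, hq, hqx⟩ := h.eta_surj (pi r • x + x)
    have hg : pi r * pi r = 1 := by
      rw [← map_mul]
      have : r * r = 1 := Subtype.ext hr.sq
      rw [this, map_one]
    have h2 := hr.comm q hq (by
      rw [hqx, smul_add, LiftDual.smul_smul_self hg, add_comm])
    have h3 := LiftOct.conj_comm h hr.sq hq ⟨x, hqx.symm⟩
    rw [h2] at h3
    have h4 : q = q⁻¹ := mul_right_cancel h3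
    apply hx
    rw [← hqx, ← h.sq_one hq]
    nth_rewrite 2 [h4]
    exact mul_inv_cancel q
  · refine ⟨c + allOne, r, by omega, ?_, hr⟩
    rw [hadd, hc]
  · exfalso
    apply hne
    rw [hc, ← hadd, key0 _ (by omega)]

end good

/-! ### All octads -/

theorem TwoA.conj {h : Chart Q z eta pi} {r : Subgroup.centralizer ({z} : Set G)} (hr : TwoA h r)
    (k : Subgroup.centralizer ({z} : Set G)) : TwoA h (k * r * k⁻¹) where
  sq := by
    show (k : G) * r * (k : G)⁻¹ * (k * r * (k : G)⁻¹) = 1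
    calc (k : G) * r * (k : G)⁻¹ * (k * r * (k : G)⁻¹) = (k : G) * (r * r) * (k : G)⁻¹ := by group
      _ = 1 := by rw [hr.sq]; group
  comm := by
    intro q hq hqf
    show (k : G) * r * (k : G)⁻¹ * q = q * (k * r * (k : G)⁻¹)
    have hkz := Subgroup.mem_centralizer_singleton_iff.1 (k⁻¹).2
    have hq' := h.large.conj_mem _ hkz q hq
    have h4 := hr.comm _ hq' (by
      rw [h.eta_conj k⁻¹ q hq, map_inv]
      rw [map_mul, map_mul, map_inv, mul_smul, mul_smul] at hqf
      rw [eq_inv_smul_iff]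
      exact hqf)
    have h5 : (r : G) * ((k : G)⁻¹ * q * k) = (k : G)⁻¹ * q * k * r := by
      have e : ((k⁻¹ : Subgroup.centralizer ({z} : Set G)) : G) = (k : G)⁻¹ := rfl
      rw [e, inv_inv] at h4
      exact h4
    calc (k : G) * r * (k : G)⁻¹ * q = (k : G) * (r * ((k : G)⁻¹ * q * k)) * (k : G)⁻¹ := by group
      _ = (k : G) * ((k : G)⁻¹ * q * k * r) * (k : G)⁻¹ := by rw [h5]
      _ = q * (k * r * (k : G)⁻¹) := by group
  notConj := by
    rintro ⟨g, hg⟩
    apply hr.notConj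
    refine ⟨(k : G)⁻¹ * g, ?_⟩
    calc (k : G)⁻¹ * g * z * ((k : G)⁻¹ * g)⁻¹ = (k : G)⁻¹ * (g * z * g⁻¹) * k := by group
      _ = (k : G)⁻¹ * (k * r * (k : G)⁻¹) * k := by rw [hg]; rfl
      _ = r := by group

/-- **M1 : over every element of `Co1` conjugate to a sign change on an octad there is an involution of `C(z)` which
commutes with every element of `Q` with a fixed class and is not conjugate to `z`.** -/
theorem exists_twoA [Finite G] (h : Chart Q z eta pi) (hf : ∃ g, g * z * g⁻¹ ∈ Q ∧ g * z * g⁻¹ ≠ z) {σ : Co1}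
    {c : golayCode} (hc : wt c = 8) (hσ : IsConj (pr (signCo0 c)) σ) :
    ∃ r : Subgroup.centralizer ({z} : Set G), pi r = σ ∧ TwoA h r := by
  obtain ⟨ρ, k, s, τ, hk, gd⟩ := LiftOct.exists_conj h hf
  obtain ⟨c', r, hc', hrc, hr⟩ := exists_oct gd
  have hrc' : ρ * pi r * ρ⁻¹ = pr (signCo0 c') := hrc
  have hr' : TwoA h r := by
    refine ⟨hr.sq, fun q hq hqf => hr.comm q hq ?_, hr.notConj⟩
    show (ρ * pi r * ρ⁻¹) • ρ • eta q = ρ • eta q
    rw [mul_smul, mul_smul, inv_smul_smul, hqf]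
  have h1 : IsConj (pi r) σ := by
    refine IsConj.trans ?_ ((CoOneType.CoOneE.isConj_of_wt c' c (Or.inl ⟨hc', hc⟩)).trans hσ)
    rw [← hrc']
    exact isConj_iff.2 ⟨ρ, rfl⟩
  obtain ⟨μ, hμ⟩ := isConj_iff.1 h1
  obtain ⟨m, rfl⟩ := h.pi_surj μ
  exact ⟨m * r * m⁻¹, by rw [map_mul, map_mul, map_inv, hμ], hr'.conj m⟩

/-- M2-dod for all conjugates -/
theorem sq_dodecad' [Finite G] (h : Chart Q z eta pi) (hf : ∃ g, g * z * g⁻¹ ∈ Q ∧ g * z * g⁻¹ ≠ z)
    {c : golayCode} (hc : wt c = 12) {x : Subgroup.centralizer ({z} : Set G)}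
    (hx : IsConj (pr (signCo0 c)) (pi x)) (hxx : (x : G) * x = 1 ∨ (x : G) * x = z) : (x : G) * x = 1 := by
  obtain ⟨μ, hμ⟩ := isConj_iff.1 hx
  obtain ⟨k, rfl⟩ := h.pi_surj μ
  have hkz := Subgroup.mem_centralizer_singleton_iff.1 k.2
  have e : ((k⁻¹ * x * k : Subgroup.centralizer ({z} : Set G)) : G) *
      ((k⁻¹ * x * k : Subgroup.centralizer ({z} : Set G)) : G) = (k : G)⁻¹ * ((x : G) * x) * k := by
    show (k : G)⁻¹ * x * k * ((k : G)⁻¹ * x * k) = _
    group
  have h1 := LiftOct.sq_dodecad h hf hc (x := k⁻¹ * x * k) (by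
      rw [map_mul, map_mul, map_inv, ← hμ]
      group) (by
      rw [e]
      rcases hxx with h2 | h2
      · left; rw [h2]; group
      · right
        rw [h2]
        calc (k : G)⁻¹ * z * k = (k : G)⁻¹ * (z * k) := by group
          _ = (k : G)⁻¹ * (k * z) := by rw [hkz]
          _ = z := by group)
  rw [e] at h1
  calc (x : G) * x = (k : G) * ((k : G)⁻¹ * ((x : G) * x) * k) * (k : G)⁻¹ := by group
    _ = 1 := by rw [h1]; group

end Cfsg.Agent.H819.LiftTwoA
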