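import Cfsg.Agent.H820.Par.Base
import Cfsg.Agent.H819.LiftTwoA

/-!
# S2198, task 2276: M1, M2, M3 in the model of the Monster (helper819)
-/

set_option autoImplicit false
set_option maxRecDepth 100000

namespace Cfsg.Agent.H819.ParLift

open Cfsg Cfsg.Spor Cfsg.Agent.MonsterX Cfsg.Agent.BpSpor.MBigModel Cfsg.Agent.MonsterU Cfsg.Agent.MonsterU.Lam2
open Cfsg.Agent.SporadicA.Co0Mono Cfsg.Agent.SporadicA.Co1Simple Cfsg.Agent.CoOneType.ClosingFacts
open Subgroup (centralizer mem_centralizer_singleton_iff)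
open Cfsg.Agent.H820.Par

theorem fused : ∃ g : MG, g * zz * g⁻¹ ∈ QQ ∧ g * zz * g⁻¹ ≠ zz := by
  have := Cfsg.Agent.BpSpor.MBigModel.finite
  have := Cfsg.Agent.BpSpor.MBigModel.simple
  exact Fused.not_weakly_closed H820.Par.chart

/-- **M1.** -/
theorem octLift : OctLiftStmt := by
  intro g hg
  obtain ⟨k, c, hc, hk⟩ := hg
  have hfin := Cfsg.Agent.BpSpor.MBigModel.finite
  have h1 : IsConj (mk (signCo0 c)) (mk g) := (isConj_mk k hk).symm
  obtain ⟨r, hr, hA⟩ := LiftTwoA.exists_twoA H820.Par.chart fused (c := c) hc.2 h1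
  refine ⟨r, hr, Subtype.ext hA.sq, ?_, hA.notConj⟩
  intro q hq hqf
  exact hA.comm q hq (by rw [hr]; exact hqf)

/-- **M2.** -/
theorem dod : DodStmt := by
  intro g hg x hx hxz
  obtain ⟨k, c, hc, hk⟩ := hg
  have hfin := Cfsg.Agent.BpSpor.MBigModel.finite
  have h1 : IsConj (mk (signCo0 c)) (mk g) := (isConj_mk k hk).symm
  have h2 := LiftTwoA.sq_dodecad' H820.Par.chart fused (c := c) hc.2 (x := x) (by rw [hx]; exact h1) (Or.inr hxz)
  rw [hxz] at h2
  exact zz_ne h2

/-- **M3.** -/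
theorem neg : NegStmt := by
  intro g hg x hx hxx
  have hcent : LThreeMB.KChart.Cent KDone.K := LThreeB.Row.cent
  have hxK := hcent x (mem_centralizer_singleton_iff.1 x.2)
  obtain ⟨A, hA⟩ := TwoQ.ind_exists hxK
  have h1 : mk A = mk g := (LThreeMB.KChart.pi_eq hcent hA).symm.trans hx
  have hg' : g * g = signCo0 allOne := hg
  have h2 : A * A = signCo0 allOne := by
    rcases (mk_eq A g).1 h1 with h3 | h3
    · rw [h3, hg']
    · rw [h3]
      have h4 := Cfsg.Agent.CoOneType.SignFacts.sign_allOne_comm g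
      calc g * signCo0 allOne * (g * signCo0 allOne) = g * (signCo0 allOne * g) * signCo0 allOne := by group
        _ = g * (g * signCo0 allOne) * signCo0 allOne := by rw [h4]
        _ = (g * g) * (signCo0 allOne * signCo0 allOne) := by group
        _ = signCo0 allOne := by rw [signCo0_mul_self, hg', mul_one]
  exact TwoB0.two_b0 KDone.lft hxK hA h2 hxx

end Cfsg.Agent.H819.ParLift
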