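import Mathlib

/-!
# Overgroups of a perfect subgroup (helper819, for S5900)

`X ≤ G` perfect and "quasisimple-like": every subgroup of `X` normalised by `X` is `X` or lies in `Z`
(`Z = 1`, or `Z = Z(X)` of prime order), `C_G(X) ≤ Z`.  Arithmetic condition `Ar p m` (`m |X| = |G| |Z|`, `p ∣ |X|`):
`p ∤ m` and `p ∤ r^i - 1` for all prime powers `r^i ∣ m`, `i ≥ 1`.

* `comm_of_arith` : an element of order `p` normalising `N`, `|N| ∣ m`, centralises `N`;
* `dich` : a subgroup `N` normalised by `X` lies in `Z` or contains `X`;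
* `simple_closure` : for `X ≤ K`: a nontrivial subgroup of `Z` is normal in `K`, or there is a simple group `N`,
  `X ≤ N ⊴ K`.
-/

set_option autoImplicit false

namespace Cfsg.Agent.H819.OverG

open Subgroup
open scoped Pointwise

universe u

/-- the arithmetic condition -/
def Ar (p m : ℕ) : Prop := ¬ p ∣ m ∧ ∀ r i : ℕ, r.Prime → 1 ≤ i → r ^ i ∣ m → ¬ p ∣ r ^ i - 1

theorem Ar.dvd {p m n : ℕ} (h : Ar p m) (hn : n ∣ m) : Ar p n :=
  ⟨fun h1 => h.1 (h1.trans hn), fun r i hr hi h1 => h.2 r i hr hi (h1.trans hn)⟩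

section coprime

variable {G : Type u} [Group G] [Finite G]

/-- a `p`-power automorphism of a `p'`-group normalises some Sylow `r`-subgroup -/
theorem exists_inv_sylow {N : Type u} [Group N] [Finite N] {p : ℕ} [Fact p.Prime] (φ : MulAut N) (hφ : φ ^ p = 1)
    (hpN : ¬ p ∣ Nat.card N) (r : ℕ) [Fact r.Prime] : ∃ P : Sylow r N, ∀ x ∈ (P : Subgroup N), φ x ∈ (P : Subgroup N) := by
  have hB : IsPGroup p ↥(zpowers φ) := by
    have h1 : orderOf φ ∣ p ^ 1 := by rw [pow_one]; exact orderOf_dvd_of_pow_eq_one hφ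
    obtain ⟨k, -, hk⟩ := (Nat.dvd_prime_pow (Fact.out : p.Prime)).1 h1
    exact IsPGroup.of_card (n := k) (by rw [Nat.card_zpowers, hk])
  have hfin : Finite (Sylow r N) := inferInstance
  obtain ⟨P0⟩ : Nonempty (Sylow r N) := inferInstance
  have h1 := hB.card_modEq_card_fixedPoints (Sylow r N)
  have h2 : ¬ p ∣ Nat.card (Sylow r N) := fun h => hpN (h.trans (P0.card_dvd_index.trans P0.index_dvd_card))
  have h3 : Nat.card (MulAction.fixedPoints ↥(zpowers φ) (Sylow r N)) ≠ 0 := by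
    intro h
    rw [h] at h1
    exact h2 ((Nat.modEq_zero_iff_dvd).1 h1)
  obtain ⟨⟨P, hP⟩⟩ := (Nat.card_ne_zero.1 h3).1
  refine ⟨P, fun x hx => ?_⟩
  have h4 := hP ⟨φ, mem_zpowers φ⟩
  have h5 : (⟨φ, mem_zpowers φ⟩ : ↥(zpowers φ)) • (P : Subgroup N) = P := congrArg (fun Q : Sylow r N => (Q : Subgroup N)) h4
  have h6 : (⟨φ, mem_zpowers φ⟩ : ↥(zpowers φ)) • x ∈ (⟨φ, mem_zpowers φ⟩ : ↥(zpowers φ)) • (P : Subgroup N) :=
    Subgroup.smul_mem_pointwise_smul _ _ _ hx
  rw [h5] at h6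
  exact h6

/-- counting the fixed points of a conjugation of order `p` on a subgroup -/
theorem fix_modEq {p : ℕ} [Fact p.Prime] {y : G} (hy : y ^ p = 1) (Q : Subgroup G) (hQ : ∀ n ∈ Q, y * n * y⁻¹ ∈ Q) :
    Nat.card ↥Q ≡ Nat.card ↥(Q ⊓ centralizer ({y} : Set G)) [MOD p] := by
  let f : ↥Q → ↥Q := fun n => ⟨y * n * y⁻¹, hQ n n.2⟩
  have hf : ∀ (k : ℕ) (n : ↥Q), ((f^[k] n : ↥Q) : G) = y ^ k * n * (y ^ k)⁻¹ := by
    intro k
    induction k with
    | zero => intro n; simp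
    | succ k ih =>
      intro n
      rw [Function.iterate_succ_apply, ih]
      change y ^ k * (y * n * y⁻¹) * (y ^ k)⁻¹ = _
      rw [pow_succ]; group
  let e : Equiv.Perm ↥Q :=
    { toFun := f
      invFun := f^[p - 1]
      left_inv := fun n => by
        apply Subtype.ext
        rw [hf]
        change y ^ (p - 1) * (y * n * y⁻¹) * (y ^ (p - 1))⁻¹ = n
        have : y ^ (p - 1) * y = 1 := by rw [← pow_succ, Nat.sub_add_cancel (Fact.out : p.Prime).pos, hy]
        have h2 : y⁻¹ = y ^ (p - 1) := (eq_inv_of_mul_eq_one_left this).symm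
        rw [← h2]; group
      right_inv := fun n => by
        apply Subtype.ext
        change y * ((f^[p - 1] n : ↥Q) : G) * y⁻¹ = n
        rw [hf]
        have : y ^ (p - 1) * y = 1 := by rw [← pow_succ, Nat.sub_add_cancel (Fact.out : p.Prime).pos, hy]
        have h2 : y ^ (p - 1) = y⁻¹ := eq_inv_of_mul_eq_one_left this
        rw [h2]; group }
  have he : ∀ (k : ℕ) (n : ↥Q), (((e ^ k) n : ↥Q) : G) = y ^ k * n * (y ^ k)⁻¹ := by
    intro k
    induction k with
    | zero => intro n; simp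
    | succ k ih =>
      intro n
      rw [pow_succ, Equiv.Perm.mul_apply, ih]
      change y ^ k * (y * n * y⁻¹) * (y ^ k)⁻¹ = _
      rw [pow_succ]; group
  have hep : e ^ p = 1 := by
    ext n
    rw [he, hy]; simp
  have hB : IsPGroup p ↥(zpowers e) := by
    have h1 : orderOf e ∣ p ^ 1 := by rw [pow_one]; exact orderOf_dvd_of_pow_eq_one hep
    obtain ⟨k, -, hk⟩ := (Nat.dvd_prime_pow (Fact.out : p.Prime)).1 h1
    exact IsPGroup.of_card (n := k) (by rw [Nat.card_zpowers, hk])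
  have h1 := hB.card_modEq_card_fixedPoints ↥Q
  have h2 : Nat.card (MulAction.fixedPoints ↥(zpowers e) ↥Q) = Nat.card ↥(Q ⊓ centralizer ({y} : Set G)) := by
    refine Nat.card_congr
      { toFun := fun n => ⟨n.1.1, n.1.2, ?_⟩
        invFun := fun n => ⟨⟨n.1, n.2.1⟩, ?_⟩
        left_inv := fun n => rfl
        right_inv := fun n => rfl }
    · have h3 : e n.1 = n.1 := n.2 ⟨e, mem_zpowers e⟩
      have h4 : y * n.1.1 * y⁻¹ = n.1.1 := congrArg Subtype.val h3
      exact mem_centralizer_singleton_iff.2 (mul_inv_eq_iff_eq_mul.1 h4).symm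
    · rintro ⟨g, hg⟩
      have h4 : n.1 * y = y * n.1 := mem_centralizer_singleton_iff.1 n.2.2
      have h3 : e ⟨n.1, n.2.1⟩ = ⟨n.1, n.2.1⟩ := by
        apply Subtype.ext
        change y * n.1 * y⁻¹ = n.1
        rw [← h4]; group
      have h5 : e ∈ MulAction.stabilizer (Equiv.Perm ↥Q) (⟨n.1, n.2.1⟩ : ↥Q) := h3
      have h6 : g ∈ MulAction.stabilizer (Equiv.Perm ↥Q) (⟨n.1, n.2.1⟩ : ↥Q) := (zpowers_le.2 h5) hg
      exact h6
  rwa [h2] at h1

/-- **an element of order `p` normalising `N` centralises `N`** -/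
theorem comm_of_arith {p : ℕ} [Fact p.Prime] {y : G} (hy : y ^ p = 1) {N : Subgroup G}
    (hN : ∀ n ∈ N, y * n * y⁻¹ ∈ N) (har : Ar p (Nat.card ↥N)) : ∀ n ∈ N, y * n = n * y := by
  have hp := (Fact.out : p.Prime)
  let f : ↥N →* ↥N :=
    { toFun := fun n => ⟨y * n * y⁻¹, hN n n.2⟩
      map_one' := Subtype.ext (by simp)
      map_mul' := fun a b => Subtype.ext (by simp [mul_assoc]) }
  have hfi : Function.Injective f := by
    intro a b h
    have h1 : y * (a : G) * y⁻¹ = y * b * y⁻¹ := congrArg Subtype.val h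
    exact Subtype.ext (mul_left_cancel (mul_right_cancel h1))
  let φ : MulAut ↥N := MulEquiv.ofBijective f (Finite.injective_iff_bijective.1 hfi)
  have hφ : ∀ n : ↥N, ((φ n : ↥N) : G) = y * n * y⁻¹ := fun _ => rfl
  have hφk : ∀ (k : ℕ) (n : ↥N), (((φ ^ k) n : ↥N) : G) = y ^ k * n * (y ^ k)⁻¹ := by
    intro k
    induction k with
    | zero => intro n; simp
    | succ k ih =>
      intro n
      rw [pow_succ, MulAut.mul_apply, ih, hφ, pow_succ]; group
  have hφp : φ ^ p = 1 := by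
    ext n
    rw [hφk, hy]; simp
  have key : Nat.card ↥N ∣ Nat.card ↥(N ⊓ centralizer ({y} : Set G)) := by
    rw [Nat.dvd_iff_prime_pow_dvd_dvd]
    intro r k hr hk
    have := Fact.mk hr
    rcases Nat.eq_zero_or_pos k with rfl | hk0
    · simp
    obtain ⟨P, hP⟩ := exists_inv_sylow φ hφp har.1 r
    let Q : Subgroup G := (P : Subgroup ↥N).map N.subtype
    have hQN : Q ≤ N := by rintro _ ⟨n, -, rfl⟩; exact n.2
    have hQc : Nat.card ↥Q = r ^ (Nat.card ↥N).factorization r := by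
      rw [← P.card_eq_multiplicity]
      exact (Nat.card_congr (equivMapOfInjective (P : Subgroup ↥N) N.subtype N.subtype_injective).toEquiv).symm
    have hQy : ∀ n ∈ Q, y * n * y⁻¹ ∈ Q := by
      rintro _ ⟨n, hn, rfl⟩
      exact ⟨φ n, hP n hn, rfl⟩
    have h1 := fix_modEq hy Q hQy
    have h2 : Nat.card ↥(Q ⊓ centralizer ({y} : Set G)) ∣ r ^ (Nat.card ↥N).factorization r := by
      rw [← hQc]; exact card_dvd_of_le inf_le_left
    obtain ⟨j, hj, hj2⟩ := (Nat.dvd_prime_pow hr).1 h2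
    have h3 : j = (Nat.card ↥N).factorization r := by
      by_contra hne
      have hlt : j < (Nat.card ↥N).factorization r := lt_of_le_of_ne hj hne
      rw [hQc, hj2] at h1
      have h4 : p ∣ r ^ (Nat.card ↥N).factorization r - r ^ j :=
        (Nat.modEq_iff_dvd' (Nat.pow_le_pow_right hr.pos hj)).1 h1.symm
      have h5 : r ^ (Nat.card ↥N).factorization r - r ^ j = r ^ j * (r ^ ((Nat.card ↥N).factorization r - j) - 1) := by
        rw [Nat.mul_sub, mul_one, ← pow_add, Nat.add_sub_cancel' hj]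
      rw [h5, hp.dvd_mul] at h4
      have hdv : r ^ ((Nat.card ↥N).factorization r - j) ∣ Nat.card ↥N :=
        (pow_dvd_pow r (Nat.sub_le _ _)).trans (Nat.ordProj_dvd _ _)
      rcases h4 with h4 | h4
      · have h6 : p = r := (Nat.prime_dvd_prime_iff_eq hp hr).1 (hp.dvd_of_dvd_pow h4)
        apply har.1
        rw [h6]
        exact (dvd_pow_self r (by omega)).trans hdv
      · exact har.2 r _ hr (by omega) hdv h4
    have h4 : r ^ k ∣ r ^ (Nat.card ↥N).factorization r :=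
      pow_dvd_pow r ((hr.pow_dvd_iff_le_factorization Nat.card_pos.ne').1 hk)
    refine h4.trans ?_
    rw [← h3, ← hj2]
    exact card_dvd_of_le (inf_le_inf_right _ hQN)
  have h1 : N ⊓ centralizer ({y} : Set G) = N :=
    eq_of_le_of_card_ge inf_le_left (Nat.le_of_dvd Nat.card_pos key)
  intro n hn
  rw [← h1] at hn
  exact (mem_centralizer_singleton_iff.1 hn.2).symm

end coprime

section struct

variable {G : Type u} [Group G]

/-- The hypotheses on `Z ≤ X`. -/
structure Hyp (Z X : Subgroup G) : Prop where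
  le : Z ≤ X
  ne : ¬ X ≤ Z
  sub : ∀ N : Subgroup G, N ≤ X → (∀ x ∈ X, ∀ n ∈ N, x * n * x⁻¹ ∈ N) → N ≤ Z ∨ N = X
  cent : ∀ g : G, (∀ x ∈ X, g * x = x * g) → g ∈ Z
  prime : ∀ N : Subgroup G, N ≤ Z → N = ⊥ ∨ N = Z

theorem card_inf_mul [Finite G] (A B : Subgroup G) : Nat.card ↥(A ⊓ B) * A.relIndex B = Nat.card ↥B := by
  have h := card_mul_index (A.subgroupOf B)
  have h2 : Nat.card ↥(A.subgroupOf B) = Nat.card ↥(A ⊓ B) := by
    rw [← inf_subgroupOf_right]
    exact Nat.card_congr (subgroupOfEquivOfLe inf_le_right).toEquiv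
  rw [h2] at h
  exact h

/-- `|N| |X|` divides `|G| |N ∩ X|` if `X` normalises `N`. -/
theorem card_mul_dvd [Finite G] {N X : Subgroup G} (hN : ∀ x ∈ X, ∀ n ∈ N, x * n * x⁻¹ ∈ N) :
    Nat.card ↥N * Nat.card ↥X ∣ Nat.card G * Nat.card ↥(N ⊓ X) := by
  have hXn : X ≤ normalizer (N : Set G) := by
    intro x hx
    rw [mem_normalizer_iff]
    intro n
    refine ⟨fun h => hN x hx n h, fun h => ?_⟩
    have := hN x⁻¹ (X.inv_mem hx) _ h
    have e : x⁻¹ * (x * n * x⁻¹) * x⁻¹⁻¹ = n := by group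
    rwa [e] at this
  let M : Subgroup G := normalizer (N : Set G)
  have hNM : N ≤ M := le_normalizer
  have hn : (N.subgroupOf M).Normal := normal_in_normalizer
  have h1 : (N.subgroupOf M).relIndex (X.subgroupOf M ⊔ N.subgroupOf M) = (N.subgroupOf M).relIndex (X.subgroupOf M) :=
    relIndex_sup_right _ _
  have h2 := card_inf_mul (N.subgroupOf M) (X.subgroupOf M)
  have h3 := card_inf_mul (N.subgroupOf M) (X.subgroupOf M ⊔ N.subgroupOf M)
  rw [h1, inf_eq_left.2 le_sup_right] at h3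
  have h4 : Nat.card ↥(X.subgroupOf M ⊔ N.subgroupOf M : Subgroup ↥M) ∣ Nat.card G :=
    (card_subgroup_dvd_card _).trans (card_subgroup_dvd_card _)
  have e1 : Nat.card ↥(N.subgroupOf M) = Nat.card ↥N := Nat.card_congr (subgroupOfEquivOfLe hNM).toEquiv
  have e2 : Nat.card ↥(X.subgroupOf M) = Nat.card ↥X := Nat.card_congr (subgroupOfEquivOfLe hXn).toEquiv
  have e3 : Nat.card ↥(N.subgroupOf M ⊓ X.subgroupOf M : Subgroup ↥M) = Nat.card ↥(N ⊓ X) :=
    Nat.card_congr (subgroupOfEquivOfLe (inf_le_left.trans hNM : N ⊓ X ≤ M)).toEquiv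
  rw [e3, e2] at h2
  rw [e1] at h3
  rw [← h3] at h4
  calc Nat.card ↥N * Nat.card ↥X = Nat.card ↥N * (N.subgroupOf M).relIndex (X.subgroupOf M) * Nat.card ↥(N ⊓ X) := by
        rw [← h2]; ring
    _ ∣ _ := Nat.mul_dvd_mul_right h4 _

theorem dich [Finite G] {Z X : Subgroup G} (H : Hyp Z X) {p : ℕ} [Fact p.Prime] (hpX : p ∣ Nat.card ↥X)
    (hpZ : ¬ p ∣ Nat.card ↥Z) {m : ℕ} (hm : Nat.card G * Nat.card ↥Z = m * Nat.card ↥X) (har : Ar p m)
    {N : Subgroup G} (hN : ∀ x ∈ X, ∀ n ∈ N, x * n * x⁻¹ ∈ N) : N ≤ Z ∨ X ≤ N := by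
  rcases H.sub (N ⊓ X) inf_le_right (fun x hx n hn => ⟨hN x hx n hn.1, X.mul_mem (X.mul_mem hx hn.2) (X.inv_mem hx)⟩)
    with h | h
  · left
    have h1 : Nat.card ↥N ∣ m := by
      have h2 := card_mul_dvd hN
      have h3 : Nat.card ↥N * Nat.card ↥X ∣ m * Nat.card ↥X := by
        rw [← hm]
        exact h2.trans (Nat.mul_dvd_mul_left _ (card_dvd_of_le h))
      exact Nat.dvd_of_mul_dvd_mul_right Nat.card_pos h3
    obtain ⟨y, hy⟩ := exists_prime_orderOf_dvd_card' (G := ↥X) p hpX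
    have hyp : (y : G) ^ p = 1 := by
      have := pow_orderOf_eq_one y
      rw [hy] at this
      exact congrArg Subtype.val this
    have h2 := comm_of_arith hyp (N := N) (fun n hn => hN y y.2 n hn) (har.dvd h1)
    rcases H.sub (X ⊓ centralizer (N : Set G)) inf_le_left (by
      intro x hx w hw
      refine ⟨X.mul_mem (X.mul_mem hx hw.1) (X.inv_mem hx), ?_⟩
      change x * w * x⁻¹ ∈ centralizer (N : Set G)
      rw [mem_centralizer_iff]
      intro n hn
      have h3 := hN x⁻¹ (X.inv_mem hx) n hn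
      have h4 : x⁻¹ * n * x⁻¹⁻¹ * w = w * (x⁻¹ * n * x⁻¹⁻¹) := mem_centralizer_iff.1 hw.2 _ h3
      calc n * (x * w * x⁻¹) = x * (x⁻¹ * n * x⁻¹⁻¹ * w) * x⁻¹ := by group
        _ = x * (w * (x⁻¹ * n * x⁻¹⁻¹)) * x⁻¹ := by rw [h4]
        _ = x * w * x⁻¹ * n := by group) with h3 | h3
    · exfalso
      apply hpZ
      have h4 : (y : G) ∈ Z := h3 ⟨y.2, mem_centralizer_iff.2 fun n hn => (h2 n hn).symm⟩
      have h5 := orderOf_dvd_natCard (⟨y, h4⟩ : ↥Z)
      rwa [Subgroup.orderOf_mk, Subgroup.orderOf_coe, hy] at h5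
    · intro n hn
      apply H.cent
      intro x hx
      rw [← h3] at hx
      exact mem_centralizer_iff.1 hx.2 n hn
  · right
    rw [← h]
    exact inf_le_left

/-- the conjugate of a subgroup -/
def cjg (k : G) (M : Subgroup G) : Subgroup G := M.map (MulAut.conj k).toMonoidHom

theorem mem_cjg {k x : G} {M : Subgroup G} : x ∈ cjg k M ↔ k⁻¹ * x * k ∈ M := by
  constructor
  · rintro ⟨m, hm, rfl⟩
    have : k⁻¹ * (k * m * k⁻¹) * k = m := by group
    change k⁻¹ * (k * m * k⁻¹) * k ∈ M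
    rwa [this]
  · intro h
    refine ⟨_, h, ?_⟩
    change k * (k⁻¹ * x * k) * k⁻¹ = x
    group

theorem card_cjg (k : G) (M : Subgroup G) : Nat.card ↥(cjg k M) = Nat.card ↥M :=
  (Nat.card_congr (M.equivMapOfInjective _ (MulAut.conj k).injective).toEquiv).symm

theorem simple_closure [Finite G] {Z X : Subgroup G} (H : Hyp Z X)
    (D : ∀ N : Subgroup G, (∀ x ∈ X, ∀ n ∈ N, x * n * x⁻¹ ∈ N) → N ≤ Z ∨ X ≤ N) {K : Subgroup G} (hXK : X ≤ K)
    (hno : Z ≠ ⊥ → ¬ ∀ k ∈ K, ∀ z ∈ Z, k * z * k⁻¹ ∈ Z) :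
    ∃ N : Subgroup G, X ≤ N ∧ N ≤ K ∧ (∀ k ∈ K, ∀ n ∈ N, k * n * k⁻¹ ∈ N) ∧ IsSimpleGroup ↥N := by
  classical
  have hZX : Nat.card ↥Z < Nat.card ↥X := by
    apply Nat.lt_of_le_of_ne (card_le_of_le H.le)
    intro h
    apply H.ne
    rw [eq_of_le_of_card_ge H.le h.ge]
  -- a normal subgroup of `K` containing `X` of least order
  let P : ℕ → Prop := fun c => ∃ N : Subgroup G, X ≤ N ∧ N ≤ K ∧ (∀ k ∈ K, ∀ n ∈ N, k * n * k⁻¹ ∈ N) ∧ Nat.card ↥N = c
  have hP : ∃ c, P c := ⟨_, K, hXK, le_rfl, fun k hk n hn => K.mul_mem (K.mul_mem hk hn) (K.inv_mem hk), rfl⟩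
  obtain ⟨N, hXN, hNK, hN, hc⟩ := Nat.find_spec hP
  have hmin : ∀ J : Subgroup G, X ≤ J → J ≤ N → (∀ k ∈ K, ∀ n ∈ J, k * n * k⁻¹ ∈ J) → J = N := by
    intro J h1 h2 h3
    apply eq_of_le_of_card_ge h2
    rw [hc]
    exact Nat.find_min' hP ⟨J, h1, h2.trans hNK, h3, rfl⟩
  refine ⟨N, hXN, hNK, hN, ?_⟩
  have hnt : Nontrivial ↥N := by
    rw [nontrivial_iff_ne_bot]
    rintro rfl
    apply H.ne
    exact hXN.trans bot_le
  refine ⟨fun M0 hM0 => ?_⟩
  let M : Subgroup G := M0.map N.subtype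
  have hMN : M ≤ N := by rintro _ ⟨n, -, rfl⟩; exact n.2
  have hMn : ∀ k ∈ N, ∀ n ∈ M, k * n * k⁻¹ ∈ M := by
    rintro k hk _ ⟨n, hn, rfl⟩
    exact ⟨⟨k, hk⟩ * n * ⟨k, hk⟩⁻¹, hM0.conj_mem n hn _, rfl⟩
  have hMk : ∀ k ∈ K, ∀ x ∈ X, ∀ n ∈ cjg k M, x * n * x⁻¹ ∈ cjg k M := by
    intro k hk x hx n hn
    rw [mem_cjg] at hn ⊢
    have h1 : k⁻¹ * x * k ∈ N := by
      have := hN k⁻¹ (K.inv_mem hk) x (hXN hx)
      rwa [inv_inv] at this
    have h2 := hMn _ h1 _ hn
    have e : k⁻¹ * x * k * (k⁻¹ * n * k) * (k⁻¹ * x * k)⁻¹ = k⁻¹ * (x * n * x⁻¹) * k := by group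
    rwa [e] at h2
  by_cases h0 : M = ⊥
  · left
    rw [eq_bot_iff]
    intro n hn
    have : (n : G) ∈ M := ⟨n, hn, rfl⟩
    rw [h0, mem_bot] at this
    exact mem_bot.2 (Subtype.ext this)
  right
  have hXM : X ≤ M := by
    rcases D M (fun x hx n hn => hMn x (hXN hx) n hn) with h1 | h1
    · exfalso
      rcases H.prime M h1 with h2 | h2
      · exact h0 h2
      · refine hno (by rw [← h2]; exact h0) ?_
        intro k hk z hz
        rcases D (cjg k M) (hMk k hk) with h3 | h3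
        · apply h3
          rw [mem_cjg, h2]
          have : k⁻¹ * (k * z * k⁻¹) * k = z := by group
          rwa [this]
        · exfalso
          have h4 := card_le_of_le h3
          rw [card_cjg, h2] at h4
          omega
    · exact h1
  have hXk : ∀ k ∈ K, X ≤ cjg k M := by
    intro k hk
    rcases D (cjg k M) (hMk k hk) with h3 | h3
    · exfalso
      have h4 := card_le_of_le h3
      have h5 := card_le_of_le hXM
      rw [card_cjg] at h4
      omega
    · exact h3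
  let J : Subgroup G :=
    { carrier := {x | ∀ k ∈ K, x ∈ cjg k M}
      mul_mem' := fun {a b} ha hb k hk => (cjg k M).mul_mem (ha k hk) (hb k hk)
      one_mem' := fun k _ => (cjg k M).one_mem
      inv_mem' := fun {a} ha k hk => (cjg k M).inv_mem (ha k hk) }
  have hJM : J ≤ M := by
    intro x hx
    have := hx 1 K.one_mem
    rw [mem_cjg] at this
    simpa using this
  have hJ : J = N := by
    apply hmin J (fun x hx k hk => hXk k hk hx) (hJM.trans hMN)
    intro k hk n hn l hl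
    have := hn (k⁻¹ * l) (K.mul_mem (K.inv_mem hk) hl)
    rw [mem_cjg] at this ⊢
    have e : (k⁻¹ * l)⁻¹ * n * (k⁻¹ * l) = l⁻¹ * (k * n * k⁻¹) * l := by group
    rwa [e] at this
  rw [eq_top_iff]
  intro n _
  have h1 : (n : G) ∈ M := hJM (by rw [hJ]; exact n.2)
  obtain ⟨n', hn', e⟩ := h1
  have : n' = n := Subtype.ext e
  rwa [this] at hn'

end struct

end Cfsg.Agent.H819.OverG
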