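import Mathlib
import Cfsg.Prelude.Def_MonsterType

/-!
# `A ≀ 2` from `A × A^w` (helper819)

`W A = (A × A) ⋊ 2`; `lift` : a homomorphism `i : A →* K` and an involution `w` of `K` with `[i A, (i A)^w] = 1` give
`W A →* K`; it is injective if `i` is injective and `A ≠ 1` has trivial centre.  `wreath_equiv` : the permutation group
`alternatingFiveWreathTwo` is `W A₅`.
-/

set_option autoImplicit false

namespace Cfsg.Agent.H819.Wreath

/-- the homomorphism of the group of order two given by an element of square one -/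
def c2 {H : Type*} [Group H] (u : H) (hu : u * u = 1) : Multiplicative (ZMod 2) →* H where
  toFun x := if x = 1 then 1 else u
  map_one' := if_pos rfl
  map_mul' := by
    have h : ∀ x : Multiplicative (ZMod 2), x = 1 ∨ x = Multiplicative.ofAdd 1 := by decide
    intro x y
    have e1 : (Multiplicative.ofAdd (1 : ZMod 2)) ≠ 1 := by decide
    have e2 : (Multiplicative.ofAdd (1 : ZMod 2)) * Multiplicative.ofAdd 1 = 1 := by decide
    rcases h x with rfl | rfl <;> rcases h y with rfl | rfl
    · simp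
    · rw [one_mul, if_pos rfl, one_mul]
    · rw [mul_one, if_pos rfl, mul_one]
    · rw [e2, if_pos rfl, if_neg e1, hu]

theorem c2_one {H : Type*} [Group H] (u : H) (hu : u * u = 1) : c2 u hu (Multiplicative.ofAdd 1) = u := by
  have e1 : (Multiplicative.ofAdd (1 : ZMod 2)) ≠ 1 := by decide
  show (if Multiplicative.ofAdd (1 : ZMod 2) = 1 then (1 : H) else u) = u
  rw [if_neg e1]

theorem cases_two (x : Multiplicative (ZMod 2)) : x = 1 ∨ x = Multiplicative.ofAdd 1 := by
  revert x; decide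

variable {A : Type*} [Group A]

/-- the exchange of the two factors -/
def sw (A : Type*) [Group A] : MulAut (A × A) := MulEquiv.prodComm

theorem sw_sq : sw A * sw A = 1 := rfl

/-- `A ≀ 2` -/
abbrev W (A : Type*) [Group A] : Type _ := (A × A) ⋊[c2 (sw A) sw_sq] (Multiplicative (ZMod 2))

variable {K : Type*} [Group K]

/-- `(a, b) ↦ i a (i b)^w` -/
def prod (i : A →* K) (w : K) (hc : ∀ a b, i a * (w * i b * w⁻¹) = (w * i b * w⁻¹) * i a) : A × A →* K where
  toFun q := i q.1 * (w * i q.2 * w⁻¹)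
  map_one' := by simp
  map_mul' q r := by
    have h := hc r.1 q.2
    show i (q.1 * r.1) * (w * i (q.2 * r.2) * w⁻¹) = (i q.1 * (w * i q.2 * w⁻¹)) * (i r.1 * (w * i r.2 * w⁻¹))
    rw [map_mul, map_mul]
    calc (i q.1 * i r.1) * (w * (i q.2 * i r.2) * w⁻¹)
        = i q.1 * (i r.1 * (w * i q.2 * w⁻¹)) * (w * i r.2 * w⁻¹) := by group
      _ = i q.1 * ((w * i q.2 * w⁻¹) * i r.1) * (w * i r.2 * w⁻¹) := by rw [h]
      _ = _ := by group

theorem prod_apply (i : A →* K) (w : K) (hc : ∀ a b, i a * (w * i b * w⁻¹) = (w * i b * w⁻¹) * i a) (q : A × A) :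
    prod i w hc q = i q.1 * (w * i q.2 * w⁻¹) := rfl

/-- `A ≀ 2 → K` -/
def lift (i : A →* K) (w : K) (hw : w * w = 1) (hc : ∀ a b, i a * (w * i b * w⁻¹) = (w * i b * w⁻¹) * i a) :
    W A →* K :=
  SemidirectProduct.lift (prod i w hc) (c2 w hw) (by
    intro g
    rcases cases_two g with rfl | rfl
    · rw [map_one, map_one]
      refine MonoidHom.ext fun q => ?_
      show prod i w hc q = 1 * prod i w hc q * 1⁻¹
      group
    · rw [c2_one, c2_one]
      refine MonoidHom.ext fun q => ?_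
      show prod i w hc (q.2, q.1) = w * prod i w hc q * w⁻¹
      rw [prod_apply, prod_apply]
      have h := hc q.2 q.1
      have hwi : w⁻¹ = w := inv_eq_of_mul_eq_one_left hw
      calc i q.2 * (w * i q.1 * w⁻¹) = (w * i q.1 * w⁻¹) * i q.2 := h
        _ = w * i q.1 * w⁻¹ * ((w * w) * i q.2 * (w * w)⁻¹) := by rw [hw]; group
        _ = w * i q.1 * (w⁻¹ * w) * w * i q.2 * w⁻¹ * w⁻¹ := by group
        _ = w * (i q.1 * (w * i q.2 * w⁻¹)) * w⁻¹ := by group)

theorem lift_apply (i : A →* K) (w : K) (hw : w * w = 1)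
    (hc : ∀ a b, i a * (w * i b * w⁻¹) = (w * i b * w⁻¹) * i a) (x : W A) :
    lift i w hw hc x = i x.left.1 * (w * i x.left.2 * w⁻¹) * c2 w hw x.right := rfl

theorem lift_injective [Nontrivial A] (hZ : ∀ a : A, (∀ b, a * b = b * a) → a = 1) (i : A →* K)
    (hi : Function.Injective i) (w : K) (hw : w * w = 1)
    (hc : ∀ a b, i a * (w * i b * w⁻¹) = (w * i b * w⁻¹) * i a) : Function.Injective (lift i w hw hc) := by
  -- `A ∩ A^w = 1`
  have hinf : ∀ a b : A, i a = w * i b * w⁻¹ → a = 1 := by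
    intro a b h
    refine hZ a fun c => hi ?_
    rw [map_mul, map_mul, h]
    exact (hc c b).symm
  have hinf' : ∀ a b : A, i a = w * i b * w⁻¹ → b = 1 := by
    intro a b h
    have h1 := hinf a b h
    rw [h1, map_one] at h
    apply hi
    rw [map_one]
    calc i b = w⁻¹ * (w * i b * w⁻¹) * w := by group
      _ = 1 := by rw [← h]; group
  rw [injective_iff_map_eq_one]
  rintro ⟨⟨a, b⟩, g⟩ h
  rw [lift_apply] at h
  rcases cases_two g with rfl | rfl
  · have h1 : i a * (w * i b * w⁻¹) = 1 := by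
      have h2 : i a * (w * i b * w⁻¹) * c2 w hw 1 = 1 := h
      rwa [map_one, mul_one] at h2
    have h2 : i a = w * i b⁻¹ * w⁻¹ := by
      rw [eq_inv_of_mul_eq_one_left h1, map_inv]; group
    have h3 := hinf a b⁻¹ h2
    have h4 := inv_eq_one.1 (hinf' a b⁻¹ h2)
    subst h3
    subst h4
    rfl
  · exfalso
    have h1 : i a * (w * i b * w⁻¹) * w = 1 := by
      have h2 : i a * (w * i b * w⁻¹) * c2 w hw (Multiplicative.ofAdd 1) = 1 := h
      rwa [c2_one] at h2
    obtain ⟨c, hc1⟩ := exists_ne (1 : A)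
    apply hc1
    have hwi : w⁻¹ = w := inv_eq_of_mul_eq_one_left hw
    have hab : i a * (w * i b * w⁻¹) = w := by
      rw [eq_inv_of_mul_eq_one_left h1, hwi]
    have h2 : w * i c * w⁻¹ = i (a * c * a⁻¹) := by
      have h3 := hc c b
      calc w * i c * w⁻¹ = (i a * (w * i b * w⁻¹)) * i c * (i a * (w * i b * w⁻¹))⁻¹ := by rw [hab]
        _ = i a * ((w * i b * w⁻¹) * i c) * (w * i b * w⁻¹)⁻¹ * (i a)⁻¹ := by group
        _ = i a * (i c * (w * i b * w⁻¹)) * (w * i b * w⁻¹)⁻¹ * (i a)⁻¹ := by rw [h3]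
        _ = i (a * c * a⁻¹) := by rw [map_mul, map_mul, map_inv]; group
    exact hinf' (a * c * a⁻¹) c h2.symm

theorem card_W [Finite A] : Nat.card (W A) = 2 * Nat.card A ^ 2 := by
  rw [Nat.card_congr SemidirectProduct.equivProd, Nat.card_prod, Nat.card_prod,
    Nat.card_congr Multiplicative.toAdd, Nat.card_zmod]
  ring

/-- **`K ≅ A ≀ 2`.** -/
theorem nonempty_equiv [Finite A] [Nontrivial A] [Finite K] (hZ : ∀ a : A, (∀ b, a * b = b * a) → a = 1) (i : A →* K)
    (hi : Function.Injective i) (w : K) (hw : w * w = 1)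
    (hc : ∀ a b, i a * (w * i b * w⁻¹) = (w * i b * w⁻¹) * i a) (hK : Nat.card K ≤ 2 * Nat.card A ^ 2) :
    Nonempty (W A ≃* K) := by
  have h1 := lift_injective hZ i hi w hw hc
  have hfin : Finite (W A) := Finite.of_injective _ h1
  have h2 : Function.Bijective (lift i w hw hc) := by
    rw [Nat.bijective_iff_injective_and_card]
    exact ⟨h1, le_antisymm (Nat.card_le_card_of_injective _ h1) (by rw [card_W]; exact hK)⟩
  exact ⟨MulEquiv.ofBijective _ h2⟩

/-! ### The permutation group -/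

/-- `A₅` -/
abbrev A5 : Type := ↥(alternatingGroup (Fin 5))

/-- the permutations of the first summand -/
def i5 : A5 →* Equiv.Perm (Fin 5 ⊕ Fin 5) where
  toFun σ := Equiv.Perm.sumCongr (σ : Equiv.Perm (Fin 5)) 1
  map_one' := by ext x; cases x <;> rfl
  map_mul' σ τ := by ext x; cases x <;> rfl

/-- the exchange -/
def w5 : Equiv.Perm (Fin 5 ⊕ Fin 5) := Equiv.sumComm (Fin 5) (Fin 5)

theorem w5_sq : w5 * w5 = 1 := by ext x; cases x <;> rfl

theorem w5_inv : w5⁻¹ = w5 := inv_eq_of_mul_eq_one_left w5_sq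

theorem conj_i5 (σ : A5) : w5 * i5 σ * w5⁻¹ = Equiv.Perm.sumCongr 1 (σ : Equiv.Perm (Fin 5)) := by
  rw [w5_inv]
  ext x; cases x <;> rfl

theorem comm_i5 (σ τ : A5) : i5 σ * (w5 * i5 τ * w5⁻¹) = (w5 * i5 τ * w5⁻¹) * i5 σ := by
  rw [conj_i5]
  ext x; cases x <;> rfl

theorem i5_injective : Function.Injective i5 := by
  intro σ τ h
  apply Subtype.ext
  ext x
  have h1 := congrArg (fun f : Equiv.Perm (Fin 5 ⊕ Fin 5) => f (Sum.inl x)) h
  exact congrArg Fin.val (Sum.inl.inj h1)

theorem simple_A5 : IsSimpleGroup A5 :=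
  alternatingGroup.isSimpleGroup (by rw [Nat.card_eq_fintype_card, Fintype.card_fin])

theorem card_A5 : Nat.card A5 = 60 := by
  have : Nontrivial (Fin 5) := inferInstance
  have h := nat_card_alternatingGroup (α := Fin 5)
  rw [Nat.card_eq_fintype_card (α := Fin 5), Fintype.card_fin] at h
  rw [h]
  decide

theorem center_A5 : ∀ a : A5, (∀ b, a * b = b * a) → a = 1 := by
  have hs := simple_A5
  have h1 : Subgroup.center A5 = ⊥ := by
    rcases (inferInstance : (Subgroup.center A5).Normal).eq_bot_or_eq_top with h | h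
    · exact h
    · exfalso
      let _ : CommGroup A5 := { (inferInstance : Group A5) with
        mul_comm := fun a b => by
          have : b ∈ Subgroup.center A5 := by rw [h]; trivial
          exact Subgroup.mem_center_iff.1 this a }
      have h2 : IsSimpleGroup A5 := hs
      have h3 : (Nat.card A5).Prime := IsSimpleGroup.prime_card
      rw [card_A5] at h3
      norm_num at h3
  intro a ha
  have h2 : a ∈ Subgroup.center A5 := Subgroup.mem_center_iff.2 fun b => (ha b).symm
  rw [h1] at h2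
  exact Subgroup.mem_bot.1 h2

/-- **`alternatingFiveWreathTwo` is `W A₅`.** -/
theorem wreath_equiv : Nonempty (W A5 ≃* ↥Cfsg.alternatingFiveWreathTwo) := by
  have hs := simple_A5
  have h1 := lift_injective center_A5 i5 i5_injective w5 w5_sq comm_i5
  have hr : (lift i5 w5 w5_sq comm_i5).range = Cfsg.alternatingFiveWreathTwo := by
    apply le_antisymm
    · rintro _ ⟨x, rfl⟩
      rw [lift_apply, conj_i5]
      have hw : w5 ∈ Cfsg.alternatingFiveWreathTwo := Subgroup.subset_closure (Or.inr rfl)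
      have h2 : ∀ σ τ : A5, Equiv.Perm.sumCongr (σ : Equiv.Perm (Fin 5)) (τ : Equiv.Perm (Fin 5)) ∈
          Cfsg.alternatingFiveWreathTwo := fun σ τ => Subgroup.subset_closure (Or.inl ⟨σ, τ, rfl⟩)
      have h3 : i5 x.left.1 * Equiv.Perm.sumCongr 1 (x.left.2 : Equiv.Perm (Fin 5)) =
          Equiv.Perm.sumCongr (x.left.1 : Equiv.Perm (Fin 5)) (x.left.2 : Equiv.Perm (Fin 5)) := by
        ext y; cases y <;> rfl
      rw [h3]
      refine Subgroup.mul_mem _ (h2 _ _) ?_
      rcases cases_two x.right with h | h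
      · rw [h, map_one]; exact Subgroup.one_mem _
      · rw [h, c2_one]; exact hw
    · rw [Cfsg.alternatingFiveWreathTwo, Subgroup.closure_le]
      rintro g (⟨σ, τ, rfl⟩ | hg)
      · refine ⟨SemidirectProduct.inl (σ, τ), ?_⟩
        rw [lift_apply]
        show i5 σ * (w5 * i5 τ * w5⁻¹) * c2 w5 w5_sq 1 = _
        rw [conj_i5, map_one, mul_one]
        ext y; cases y <;> rfl
      · rw [Set.mem_singleton_iff] at hg
        subst hg
        refine ⟨SemidirectProduct.inr (Multiplicative.ofAdd 1), ?_⟩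
        rw [lift_apply]
        show i5 1 * (w5 * i5 1 * w5⁻¹) * c2 w5 w5_sq (Multiplicative.ofAdd 1) = w5
        rw [c2_one, map_one]
        group
  exact ⟨(MonoidHom.ofInjective h1).trans (MulEquiv.subgroupCongr hr)⟩

end Cfsg.Agent.H819.Wreath
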