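import Cfsg.Agent.H819.Fus
import Cfsg.Agent.H819.Wreath
import Cfsg.Agent.MFiveHN.Inst

/-!
# The centralizer of a Sylow 5-subgroup of `C(z, y)` is of Harada–Norton type (helper819)
-/

set_option autoImplicit false

namespace Cfsg.Agent.H819.Five

open Cfsg Cfsg.Spor Cfsg.Agent.MonsterU Cfsg.Agent.MonsterU.Lam2 Cfsg.Agent.MonsterU.Ch
open Cfsg.Agent.Co2Type.Quad Cfsg.Agent.H819.Base Cfsg.Agent.H819.Frame
open Cfsg.Agent.LThreeMB (fr XX Zx Zx_le_center self mk Faith tt PB mem_PB)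
open Cfsg.Agent.MonsterU.CoFrameL2 (f0 F)
open Cfsg.Agent.MFiveHN.Cent (xx sig a5)
open Subgroup (centralizer zpowers mem_centralizer_singleton_iff)

/-! ### The group `C(xx)/⟨xx⟩` -/

instance finC : Finite Spor.Co1 := MFiveHN.Cent.finCo1

/-- `A₅ → C(xx)/⟨xx⟩` -/
theorem exists_i : ∃ i : Wreath.A5 →* XX xx, Function.Injective i ∧
    ∀ a : Wreath.A5, ∃ b : ↥MFiveHN.Cent.AA, i a = QuotientGroup.mk ⟨b, MFiveHN.Cent.AA_le b.2⟩ := by
  obtain ⟨f⟩ := MFiveHN.Cent.nonempty_equiv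
  let i : Wreath.A5 →* XX xx :=
    ((QuotientGroup.mk' (Zx xx)).comp (Subgroup.inclusion MFiveHN.Cent.AA_le)).comp f.symm.toMonoidHom
  refine ⟨i, ?_, fun a => ⟨f.symm a, rfl⟩⟩
  rw [injective_iff_map_eq_one]
  intro a ha
  have h1 : (Subgroup.inclusion MFiveHN.Cent.AA_le (f.symm a)) ∈ Zx xx := (QuotientGroup.eq_one_iff _).1 ha
  have h2 := Zx_le_center _ h1
  refine Wreath.center_A5 a fun b => f.symm.injective ?_
  rw [map_mul, map_mul]
  have h3 := Subgroup.mem_center_iff.1 h2 (Subgroup.inclusion MFiveHN.Cent.AA_le (f.symm b))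
  apply Subtype.ext
  exact (congrArg Subtype.val h3).symm

theorem wreath_xx : Nonempty (Wreath.W Wreath.A5 ≃* XX xx) := by
  obtain ⟨i, hi, hib⟩ := exists_i
  have hs := Wreath.simple_A5
  have hfin : Finite (XX xx) := Quotient.finite _
  let w' : ↥(centralizer ({xx} : Set Spor.Co1)) :=
    ⟨MFiveHN.Cent.ww, mem_centralizer_singleton_iff.2 MFiveHN.Cent.w_x⟩
  refine Wreath.nonempty_equiv Wreath.center_A5 i hi (QuotientGroup.mk w') ?_ ?_ ?_
  · have h1 : w' * w' = 1 := Subtype.ext MFiveHN.Cent.w_sq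
    rw [← QuotientGroup.mk_mul, h1]
    rfl
  · intro a b
    obtain ⟨a', ha⟩ := hib a
    obtain ⟨b', hb⟩ := hib b
    rw [ha, hb]
    have h1 := MFiveHN.Cent.comm_AA a' a'.2 b' b'.2
    rw [← QuotientGroup.mk_inv, ← QuotientGroup.mk_mul, ← QuotientGroup.mk_mul, ← QuotientGroup.mk_mul,
      ← QuotientGroup.mk_mul]
    congr 1
    exact Subtype.ext h1
  · rw [MFiveHN.Cent.quo.1, Wreath.card_A5]
    norm_num

theorem equiv_xx : Nonempty (XX xx ≃* ↥alternatingFiveWreathTwo) := by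
  obtain ⟨e⟩ := wreath_xx
  obtain ⟨f⟩ := Wreath.wreath_equiv
  exact ⟨e.symm.trans f⟩

theorem core_xx : ∀ N : Subgroup (XX xx), N.Normal → IsPGroup 2 ↥N → N = ⊥ := by
  intro N hN h2
  rcases MFiveHN.Cent.quo.2 N hN with h | h
  · exact h
  · exfalso
    have hfin : Finite (XX xx) := Quotient.finite _
    obtain ⟨n, hn⟩ := IsPGroup.iff_card.1 h2
    rw [hn] at h
    have h3 : (3 : ℕ) ∣ 2 ^ n := (by norm_num : (3 : ℕ) ∣ 3600).trans h
    have h4 := Nat.Prime.dvd_of_dvd_pow (by norm_num) h3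
    norm_num at h4

theorem facts (s : Co1) (hs : s = xx) : Faith s ∧ fr s = 2 ^ (2 * 4) ∧ Nonempty (XX s ≃* ↥alternatingFiveWreathTwo) ∧
    ∀ N : Subgroup (XX s), N.Normal → IsPGroup 2 ↥N → N = ⊥ := by
  subst hs
  exact ⟨MFiveHN.Inst.faith, MFiveHN.Inst.fr_xx, equiv_xx, core_xx⟩

theorem xx_mem : xx ∈ F := by
  refine ⟨a5, ?_, rfl⟩
  exact Cfsg.Agent.SporadicA.Co1Simple.perm_mem_N sig

/-! ### The theorem -/

theorem hn_of_zx {X : Type*} [Group X] (x : X) (C : Subgroup X) (hC : C = centralizer ({x} : Set X)) (B : Subgroup X)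
    (hB : B = zpowers x) (hX : IsOfHaradaNortonType (XX x)) [hn : (B.subgroupOf C).Normal] :
    IsOfHaradaNortonType (↥C ⧸ B.subgroupOf C) := by
  subst hC
  have h1 : B.subgroupOf (centralizer ({x} : Set X)) = Zx x := by
    rw [hB]
    ext g
    rw [Subgroup.mem_subgroupOf, Zx, Subgroup.mem_zpowers_iff, Subgroup.mem_zpowers_iff]
    constructor
    · rintro ⟨i, hi⟩; exact ⟨i, Subtype.ext hi⟩
    · rintro ⟨i, hi⟩; exact ⟨i, congrArg Subtype.val hi⟩
  revert hn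
  rw [h1]
  intro hn
  exact hX

/-- the element `τ` normalizes `C(z, y)` -/
theorem conj_mem_pair {G : Type*} [Group G] {z y τ x : G} (τz : τ * z * τ⁻¹ = y) (τy : τ * y * τ⁻¹ = z * y)
    (hyy : y * y = 1) (hzy : z * y = y * z) (hxz : x * z = z * x) (hxy : x * y = y * x) :
    τ * x * τ⁻¹ ∈ centralizer ({z, y} : Set G) := by
  have τzy : τ * (z * y) * τ⁻¹ = z := by
    calc τ * (z * y) * τ⁻¹ = (τ * z * τ⁻¹) * (τ * y * τ⁻¹) := by group
      _ = y * (z * y) := by rw [τz, τy]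
      _ = z := by rw [← mul_assoc, ← hzy, mul_assoc, hyy, mul_one]
  have hxzy : x * (z * y) = (z * y) * x := by rw [← mul_assoc, hxz, mul_assoc, hxy, ← mul_assoc]
  have h1 : (τ * x * τ⁻¹) * (τ * (z * y) * τ⁻¹) = (τ * (z * y) * τ⁻¹) * (τ * x * τ⁻¹) := by
    calc (τ * x * τ⁻¹) * (τ * (z * y) * τ⁻¹) = τ * (x * (z * y)) * τ⁻¹ := by group
      _ = τ * ((z * y) * x) * τ⁻¹ := by rw [hxzy]
      _ = (τ * (z * y) * τ⁻¹) * (τ * x * τ⁻¹) := by group
  have h2 : (τ * x * τ⁻¹) * (τ * z * τ⁻¹) = (τ * z * τ⁻¹) * (τ * x * τ⁻¹) := by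
    calc (τ * x * τ⁻¹) * (τ * z * τ⁻¹) = τ * (x * z) * τ⁻¹ := by group
      _ = τ * (z * x) * τ⁻¹ := by rw [hxz]
      _ = (τ * z * τ⁻¹) * (τ * x * τ⁻¹) := by group
  rw [τzy] at h1
  rw [τz] at h2
  exact mem_pair.2 ⟨h1, h2⟩

section

variable {G : Type*} [Group G] {P : Subgroup G} {z y : G} {eta : G → L2}
  {pi : Subgroup.centralizer ({z} : Set G) →* Co1}

theorem card_LL_five [Finite G] (h : Chart P z eta pi) (hyP : y ∈ P) (hy : eta y = f0) :
    (Nat.card ↥(centralizer ({z, y} : Set G))).factorization 5 = 1 := by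
  rw [SylLem.factorization_eq (phi h hyP hy) (phi_surj h hyP hy) (not_dvd_ker h hyP hy (by norm_num) (by norm_num)),
    card_F]
  have h1 : (2 ^ 21 * 3 ^ 3 * 5 * 7 * 11 * 23 : ℕ) = 5 * (2 ^ 21 * 3 ^ 3 * 7 * 11 * 23) := by norm_num
  rw [h1, Nat.factorization_mul (by norm_num) (by norm_num), Finsupp.add_apply, Nat.Prime.factorization_self (by norm_num),
    Nat.factorization_eq_zero_of_not_dvd (by norm_num)]

theorem card_F_five : (Nat.card ↥F).factorization 5 = 1 := by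
  rw [card_F]
  have h1 : (2 ^ 21 * 3 ^ 3 * 5 * 7 * 11 * 23 : ℕ) = 5 * (2 ^ 21 * 3 ^ 3 * 7 * 11 * 23) := by norm_num
  rw [h1, Nat.factorization_mul (by norm_num) (by norm_num), Finsupp.add_apply, Nat.Prime.factorization_self (by norm_num),
    Nat.factorization_eq_zero_of_not_dvd (by norm_num)]

/-- the case `pi x = xx` -/
theorem main_aux [Finite G] (h : Chart P z eta pi) (hyP : y ∈ P) (hy : eta y = f0) {τ : G} (τz : τ * z * τ⁻¹ = y)
    (τy : τ * y * τ⁻¹ = z * y) {x : Subgroup.centralizer ({z} : Set G)} (hx : orderOf (x : G) = 5)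
    (hxy : (x : G) * y = y * x) (hxx : pi x = xx) : IsOfHaradaNortonType (XX (x : G)) := by
  have hxz : (x : G) * z = z * x := mem_centralizer_singleton_iff.1 x.2
  have hx5 : (x : G) ^ 5 = 1 := by rw [← hx, pow_orderOf_eq_one]
  have hyy : y * y = 1 := AmalPerf.y_sq h hyP hy
  have hzy : z * y = y * z := (h.large.comm_z y hyP).symm
  -- fusion
  have hxL : (x : G) ∈ centralizer ({z, y} : Set G) := mem_pair.2 ⟨hxz, hxy⟩
  have hx'L : τ * (x : G) * τ⁻¹ ∈ centralizer ({z, y} : Set G) := conj_mem_pair τz τy hyy hzy hxz hxy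
  have hS : Nat.card ↥(zpowers (⟨x, hxL⟩ : ↥(centralizer ({z, y} : Set G)))) =
      5 ^ (Nat.card ↥(centralizer ({z, y} : Set G))).factorization 5 := by
    rw [card_LL_five h hyP hy, Nat.card_zpowers, Subgroup.orderOf_mk, hx, pow_one]
  obtain ⟨c, hc⟩ := SylLem.exists_conj_mem (by norm_num) hS
    (x := (⟨τ * x * τ⁻¹, hx'L⟩ : ↥(centralizer ({z, y} : Set G)))) (n := 1) (by
      apply Subtype.ext
      show (τ * (x : G) * τ⁻¹) ^ 5 ^ 1 = 1
      rw [pow_one, conj_pow, hx5, mul_one, mul_inv_cancel])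
  obtain ⟨i, hi⟩ := Subgroup.mem_zpowers_iff.1 hc
  have hi' : (c : G) * (τ * x * τ⁻¹) * (c : G)⁻¹ = (x : G) ^ i := (congrArg Subtype.val hi).symm
  obtain ⟨d, hdx, hd⟩ := Fus.exists_comm h hyP hy τz τy (Or.inr rfl) hx c.2 hi'
  obtain ⟨v, hdv, hvP, hvz⟩ : ∃ v, d * z * d⁻¹ = v ∧ v ∈ P ∧ v ≠ z := by
    rcases hd with hd | hd
    · exact ⟨y, hd, hyP, AmalPerf.y_ne_z h hy⟩
    · refine ⟨z * y, hd, P.mul_mem h.large.z_mem hyP, ?_⟩
      intro h1
      exact AmalPerf.y_ne h hyP hy (mul_eq_left.1 h1)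
  obtain ⟨hf, hfr, ⟨e⟩, hO⟩ := facts (pi x) hxx
  obtain ⟨t, R, hR, hset, ⟨e'⟩⟩ := Fus.setting_of_fus h (p := 5) (by norm_num) (by decide)
    (x := x) (Subtype.ext hx5) hf (w := 4) (by norm_num) hfr hO hdx hdv hvP hvz
  exact ⟨t, R, hR, hset, ⟨e'.trans e⟩⟩

/-- **The centralizer of a subgroup of order 5 of `C(z, y)`.** -/
theorem main [Finite G] (h : Chart P z eta pi) {y : G} (hyP : y ∈ P) (hyz : y ≠ z) (hconj : IsConj z y) (B : Subgroup G)
    (hB : B ≤ centralizer ({z, y} : Set G))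
    (hBp : Nat.card ↥B = 5 ^ (Nat.card ↥(centralizer ({z, y} : Set G))).factorization 5)
    [hn : (B.subgroupOf (centralizer (B : Set G))).Normal] :
    IsOfHaradaNortonType (↥(centralizer (B : Set G)) ⧸ B.subgroupOf (centralizer (B : Set G))) := by
  obtain ⟨g, hg⟩ := isConj_iff.1 hconj
  obtain ⟨s, τ, τz, τy, hs⟩ := AmalSideOf.exists_frame h hyP hyz ⟨g, hg⟩
  have h' := h.smul s
  have hB5 : Nat.card ↥B = 5 := by rw [hBp, card_LL_five h' hyP hs, pow_one]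
  have : Fact (Nat.Prime 5) := ⟨by norm_num⟩
  have hcyc : IsCyclic ↥B := isCyclic_of_prime_card hB5
  obtain ⟨⟨x0, hx0B⟩, hx0⟩ := hcyc.exists_generator
  have hBx0 : B = zpowers x0 := by
    apply le_antisymm
    · intro b hb
      obtain ⟨i, hi⟩ := Subgroup.mem_zpowers_iff.1 (hx0 ⟨b, hb⟩)
      exact ⟨i, congrArg Subtype.val hi⟩
    · rw [Subgroup.zpowers_le]; exact hx0B
  have hx0o : orderOf x0 = 5 := by rw [← Nat.card_zpowers, ← hBx0, hB5]
  have hx0L := hB hx0B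
  -- conjugate `phi x0` into `⟨xx⟩`
  have hS : Nat.card ↥(zpowers (⟨xx, xx_mem⟩ : ↥F)) = 5 ^ (Nat.card ↥F).factorization 5 := by
    rw [card_F_five, Nat.card_zpowers, Subgroup.orderOf_mk, MFiveHN.Cent.order_x, pow_one]
  obtain ⟨f, hf⟩ := SylLem.exists_conj_mem (by norm_num) hS (x := phi h' hyP hs ⟨x0, hx0L⟩) (n := 1) (by
    rw [← map_pow, pow_one]
    have : (⟨x0, hx0L⟩ : ↥(centralizer ({z, y} : Set G))) ^ 5 = 1 :=
      Subtype.ext (by show x0 ^ 5 = 1; rw [← hx0o, pow_orderOf_eq_one])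
    rw [this, map_one])
  obtain ⟨i, hi⟩ := Subgroup.mem_zpowers_iff.1 hf
  have hi' : (f : Co1) * (s * pi (toZ (⟨x0, hx0L⟩ : ↥(centralizer ({z, y} : Set G)))) * s⁻¹) * (f : Co1)⁻¹ = xx ^ i :=
    (congrArg Subtype.val hi).symm
  -- `5 ∤ i`
  have hi5 : ¬ (5 : ℤ) ∣ i := by
    rintro ⟨k, rfl⟩
    have h2 : xx ^ ((5 : ℤ) * k) = 1 := by
      have h3 : xx ^ 5 = 1 := MFiveHN.Cent.x_pow
      rw [zpow_mul]
      have h4 : xx ^ (5 : ℤ) = 1 := by exact_mod_cast h3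
      rw [h4, one_zpow]
    rw [h2] at hi'
    have h3 : pi (toZ (⟨x0, hx0L⟩ : ↥(centralizer ({z, y} : Set G)))) = 1 := by
      calc pi (toZ (⟨x0, hx0L⟩ : ↥(centralizer ({z, y} : Set G))))
          = s⁻¹ * ((f : Co1)⁻¹ * ((f : Co1) * (s * pi (toZ (⟨x0, hx0L⟩ : ↥(centralizer ({z, y} : Set G)))) * s⁻¹) *
            (f : Co1)⁻¹) * f) * s := by group
        _ = 1 := by rw [hi']; group
    have h4 : x0 ∈ P := (h.pi_eq_one _).1 h3
    have h5 := MFive.pow_four h h4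
    have h6 : x0 ^ 5 = 1 := by rw [← hx0o, pow_orderOf_eq_one]
    rw [MFive.eq_one_of_pow (p := 5) (by decide) h6 h5, orderOf_one] at hx0o
    norm_num at hx0o
  -- the inverse of `i` modulo 5
  obtain ⟨j, k, hjk⟩ : ∃ j k : ℤ, i * j = 1 + 5 * k := by
    have hcop : IsCoprime i 5 := by
      rw [Int.isCoprime_iff_gcd_eq_one]
      have h7 : Nat.Coprime i.natAbs 5 := by
        rw [Nat.coprime_comm, Nat.Prime.coprime_iff_not_dvd (by norm_num)]
        intro h8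
        exact hi5 (Int.natCast_dvd.2 h8)
      exact h7
    obtain ⟨a, b, hab⟩ := hcop
    exact ⟨a, -b, by linarith⟩
  have hxj : xx ^ (i * j) = xx := by
    have h3 : xx ^ 5 = 1 := MFiveHN.Cent.x_pow
    have h4 : xx ^ (5 : ℤ) = 1 := by exact_mod_cast h3
    rw [hjk, zpow_add, zpow_one, zpow_mul, h4, one_zpow, mul_one]
  -- the generator
  let x1 : ↥(centralizer ({z, y} : Set G)) := (⟨x0, hx0L⟩ : ↥(centralizer ({z, y} : Set G))) ^ j
  have hx1 : (x1 : G) = x0 ^ j := rfl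
  have hj5 : ¬ (5 : ℤ) ∣ j := by
    rintro ⟨m, rfl⟩
    have : (5 : ℤ) ∣ 1 := ⟨i * m - k, by linarith⟩
    norm_num at this
  have hBx1 : B = zpowers (x1 : G) := by
    have h8 : Nat.card ↥(zpowers (x1 : G)) = 5 := by
      rw [Nat.card_zpowers]
      apply orderOf_eq_prime
      · rw [hx1, ← zpow_natCast, ← zpow_mul, mul_comm, zpow_mul, zpow_natCast, ← hx0o, pow_orderOf_eq_one, one_zpow]
      · intro h9
        rw [hx1] at h9
        have h10 := orderOf_dvd_iff_zpow_eq_one.2 h9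
        rw [hx0o] at h10
        exact hj5 h10
    symm
    apply Subgroup.eq_of_le_of_card_ge
    · rw [Subgroup.zpowers_le, hx1]
      exact B.zpow_mem hx0B j
    · rw [h8, hB5]
  have h'' := h'.smul (f : Co1)
  have hy'' : (f : Co1) • (s • eta y) = f0 := by
    rw [hs]
    exact CoFrameL2.smul_f0 f.2
  have hx1o : orderOf ((toZ x1 : ↥(centralizer ({z} : Set G))) : G) = 5 := by
    show orderOf (x1 : G) = 5
    rw [← Nat.card_zpowers, ← hBx1, hB5]
  have hpi : ((MulAut.conj (f : Co1)).toMonoidHom.comp ((MulAut.conj s).toMonoidHom.comp pi)) (toZ x1) = xx := by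
    have e1 : toZ x1 = (toZ (⟨x0, hx0L⟩ : ↥(centralizer ({z, y} : Set G)))) ^ j := Subtype.ext rfl
    rw [e1, map_zpow]
    show ((f : Co1) * (s * pi (toZ (⟨x0, hx0L⟩ : ↥(centralizer ({z, y} : Set G)))) * s⁻¹) * (f : Co1)⁻¹) ^ j = xx
    rw [hi', ← zpow_mul, hxj]
  have hmain := main_aux h'' hyP hy'' τz τy hx1o (mem_pair.1 x1.2).2 hpi
  have hC : centralizer (B : Set G) = centralizer ({(x1 : G)} : Set G) := by
    rw [hBx1]
    ext g
    rw [Subgroup.mem_centralizer_iff, mem_centralizer_singleton_iff]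
    constructor
    · intro h9
      exact (h9 x1 (Subgroup.mem_zpowers _)).symm
    · rintro h9 _ ⟨m, rfl⟩
      have h10 : Commute g (x1 : G) := h9
      exact (h10.zpow_right m).eq.symm
  exact hn_of_zx (x1 : G) _ hC B hBx1 hmain

end

end Cfsg.Agent.H819.Five
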