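import Cfsg.Agent.H849.FourMap
import Cfsg.Agent.H819.OverCL

/-!
# The double cover `C(t, a) / ⟨t⟩` in `C(t) / ⟨t⟩` (helper819)

`FourGroup.Data t a u v π` in a group `G`, `π : C(t, a) → E` onto a nonabelian simple group, `f : C(t) → B` onto with
kernel `⟨t⟩`: the image `X` of `C(t, a)` in `B` is a perfect double cover of `E` with centralizer `⟨f a⟩`.
-/

set_option autoImplicit false

namespace Cfsg.Agent.H819.FourQuot

open Subgroup Cfsg.Agent.H849.FourGroup Cfsg.Agent.H819.OverG Cfsg.Agent.H819.OverCL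
open scoped commutatorElement

universe u v w

variable {G : Type u} {E : Type v} {B : Type w} [Group G] [Group E] [Group B] {t a y z : G}
  {π : centralizer ({t, a} : Set G) →* E}

set_option quotPrecheck false in
local notation "C" => centralizer (insert t (singleton a) : Set G)

/-- `C(t, a)` is perfect -/
theorem perfect (D : Data t a y z π) [IsSimpleGroup E] (hna : ∃ a b : E, a * b ≠ b * a) :
    _root_.commutator (centralizer ({t, a} : Set G)) = ⊤ := by
  have htC : t ∈ C := mem_cent.2 ⟨rfl, D.ta⟩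
  have haC : a ∈ C := mem_cent.2 ⟨D.ta.symm, rfl⟩
  -- conjugation by `u`
  have hu : ∀ g : C, y * (g : G) * y⁻¹ ∈ C := by
    intro g
    obtain ⟨h1, h2⟩ := mem_cent.1 g.2
    refine mem_cent.2 ⟨?_, ?_⟩
    · have e : t = y * a * y⁻¹ := D.ua.symm
      calc y * g * y⁻¹ * t = y * g * y⁻¹ * (y * a * y⁻¹) := by rw [← e]
        _ = y * (g * a) * y⁻¹ := by group
        _ = y * (a * g) * y⁻¹ := by rw [h2]
        _ = (y * a * y⁻¹) * (y * g * y⁻¹) := by group
        _ = t * (y * g * y⁻¹) := by rw [← e]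
    · have e : a = y * t * y⁻¹ := D.ut.symm
      calc y * g * y⁻¹ * a = y * g * y⁻¹ * (y * t * y⁻¹) := by rw [← e]
        _ = y * (g * t) * y⁻¹ := by group
        _ = y * (t * g) * y⁻¹ := by rw [h1]
        _ = (y * t * y⁻¹) * (y * g * y⁻¹) := by group
        _ = a * (y * g * y⁻¹) := by rw [← e]
  let φ : C →* C :=
    { toFun := fun g => ⟨y * (g : G) * y⁻¹, hu g⟩
      map_one' := Subtype.ext (by simp)
      map_mul' := fun a b => Subtype.ext (by simp [mul_assoc]) }
  have ht : (⟨t, htC⟩ : C) ∈ _root_.commutator C := D.comm htC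
  have ha : (⟨a, haC⟩ : C) ∈ _root_.commutator C := by
    have h1 := map_comm_le φ ht
    have h2 : φ ⟨t, htC⟩ = ⟨a, haC⟩ := Subtype.ext D.ut
    rwa [h2] at h1
  have hker : ∀ g : C, π g = 1 → g ∈ _root_.commutator C := by
    intro g hg
    rcases (D.ker g).1 hg with h | h | h | h
    · have : g = 1 := Subtype.ext h
      rw [this]; exact one_mem _
    · have : g = ⟨t, htC⟩ := Subtype.ext h
      rw [this]; exact ht
    · have : g = ⟨a, haC⟩ := Subtype.ext h
      rw [this]; exact ha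
    · have : g = ⟨t, htC⟩ * ⟨a, haC⟩ := Subtype.ext h
      rw [this]; exact mul_mem ht ha
  have hmap : (_root_.commutator C).map π = ⊤ := by
    have hn : ((_root_.commutator C).map π).Normal := Subgroup.Normal.map inferInstance π D.surj
    rcases hn.eq_bot_or_eq_top with h2 | h2
    · exfalso
      obtain ⟨c, d, hcd⟩ := hna
      obtain ⟨x, rfl⟩ := D.surj c
      obtain ⟨x', rfl⟩ := D.surj d
      have h3 : π ⁅x, x'⁆ ∈ (_root_.commutator C).map π :=
        ⟨_, Subgroup.commutator_mem_commutator (Subgroup.mem_top x) (Subgroup.mem_top x'), rfl⟩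
      rw [h2, Subgroup.mem_bot, map_commutatorElement, commutatorElement_eq_one_iff_mul_comm] at h3
      exact hcd h3
    · exact h2
  rw [eq_top_iff]
  intro x _
  have h1 : π x ∈ (_root_.commutator C).map π := by rw [hmap]; trivial
  obtain ⟨c, hc, hcx⟩ := h1
  have h2 := hker (c⁻¹ * x) (by rw [map_mul, map_inv, hcx, inv_mul_cancel])
  have h3 := mul_mem hc h2
  rwa [mul_inv_cancel_left] at h3

/-- a homomorphism that kills the kernel factors -/
theorem exists_factor {A A' E : Type*} [Group A] [Group A'] [Group E] {ρ : A →* A'} (hρ : Function.Surjective ρ)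
    (π : A →* E) (h : ∀ x, ρ x = 1 → π x = 1) : ∃ σ : A' →* E, ∀ x, σ (ρ x) = π x := by
  choose s hs using hρ
  have key : ∀ x x', ρ x = ρ x' → π x = π x' := by
    intro x x' hx
    have h1 : ρ (x * x'⁻¹) = 1 := by rw [map_mul, map_inv, hx, mul_inv_cancel]
    have h2 := h _ h1
    rwa [map_mul, map_inv, mul_inv_eq_one] at h2
  refine ⟨{ toFun := fun c => π (s c), map_one' := ?_, map_mul' := fun c d => ?_ }, fun x => key _ _ (hs _)⟩
  · exact h _ (hs 1)
  · rw [← map_mul]
    exact key _ _ (by rw [map_mul, hs, hs, hs])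

/-- **the double cover in `B`** -/
theorem main (D : Data t a y z π) [IsSimpleGroup E] (hna : ∃ a b : E, a * b ≠ b * a)
    {f : centralizer ({t} : Set G) →* B} (hf : Function.Surjective f)
    (hk : ∀ x : centralizer ({t} : Set G), f x = 1 ↔ (x : G) = 1 ∨ (x : G) = t) :
    ∃ Z X : Subgroup B, Hyp Z X ∧ Nat.card ↥Z = 2 ∧ (∀ z ∈ Z, ∀ x ∈ X, z * x = x * z) ∧
      ∃ σ : ↥X →* E, Function.Surjective σ ∧ (∀ x : ↥X, σ x = 1 ↔ (x : B) ∈ Z) := by
  have htC : t ∈ C := mem_cent.2 ⟨rfl, D.ta⟩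
  have haC : a ∈ C := mem_cent.2 ⟨D.ta.symm, rfl⟩
  have hle : C ≤ centralizer ({t} : Set G) := centralizer_le (by simp)
  let i : C →* centralizer ({t} : Set G) := inclusion hle
  let ρ : C →* B := f.comp i
  have hρ : ∀ x : C, ρ x = 1 ↔ (x : G) = 1 ∨ (x : G) = t := fun x => hk (i x)
  let X : Subgroup B := ρ.range
  let ρ' : C →* X := ρ.rangeRestrict
  have hρs : Function.Surjective ρ' := ρ.rangeRestrict_surjective
  have hρ1 : ∀ x : C, ρ' x = 1 ↔ ρ x = 1 := fun x => by
    rw [Subtype.ext_iff]; rfl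
  let b : B := ρ ⟨a, haC⟩
  have hb1 : b ≠ 1 := by
    intro h
    rcases (hρ _).1 h with h1 | h1
    · exact D.a1 h1
    · exact D.ne h1.symm
  have hbb : b * b = 1 := by
    rw [← map_mul]
    have : (⟨a, haC⟩ : C) * ⟨a, haC⟩ = 1 := Subtype.ext D.aa
    rw [this, map_one]
  have hob : orderOf b = 2 := orderOf_eq_prime (by rw [pow_two, hbb]) hb1
  have hZ2 : Nat.card ↥(zpowers b) = 2 := by rw [Nat.card_zpowers, hob]
  have hZm : ∀ c : B, c ∈ zpowers b ↔ c = 1 ∨ c = b := by
    intro c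
    constructor
    · intro hc
      obtain ⟨k, rfl⟩ := hc
      have hb2 : b ^ (2 : ℤ) = 1 := by rw [zpow_two, hbb]
      rcases Int.even_or_odd' k with ⟨j, rfl | rfl⟩
      · left
        show b ^ (2 * j) = 1
        rw [zpow_mul, hb2, one_zpow]
      · right
        show b ^ (2 * j + 1) = b
        rw [zpow_add, zpow_mul, hb2, one_zpow, one_mul, zpow_one]
    · rintro (rfl | rfl)
      · exact one_mem _
      · exact mem_zpowers _
  have hZX : zpowers b ≤ X := by
    rw [zpowers_le]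
    exact ⟨_, rfl⟩
  have hbx : ∀ x ∈ X, b * x = x * b := by
    rintro _ ⟨c, rfl⟩
    rw [← map_mul, ← map_mul]
    congr 1
    exact Subtype.ext (mem_cent.1 c.2).2.symm
  have hcen : ∀ z ∈ zpowers b, ∀ x ∈ X, z * x = x * z := by
    intro z hz x hx
    rcases (hZm z).1 hz with rfl | rfl
    · rw [one_mul, mul_one]
    · exact hbx x hx
  obtain ⟨σ, hσ⟩ := exists_factor hρs π (fun x hx => by
    rw [hρ1, hρ] at hx
    rw [D.ker]
    rcases hx with h | h
    · exact Or.inl h
    · exact Or.inr (Or.inl h))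
  have hσs : Function.Surjective σ := by
    intro e
    obtain ⟨x, rfl⟩ := D.surj e
    exact ⟨ρ' x, hσ x⟩
  have hρt : ρ ⟨t, htC⟩ = 1 := (hρ _).2 (Or.inr rfl)
  have hσk : ∀ x : ↥X, σ x = 1 ↔ (x : B) ∈ zpowers b := by
    intro x
    obtain ⟨c, rfl⟩ := hρs x
    rw [hσ, D.ker, hZm]
    have e1 : ((ρ' c : ↥X) : B) = ρ c := rfl
    rw [e1]
    constructor
    · rintro (h | h | h | h)
      · left; rw [hρ]; exact Or.inl h
      · left; rw [hρ]; exact Or.inr h
      · right
        have : c = ⟨a, haC⟩ := Subtype.ext h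
        rw [this]
      · right
        have : c = ⟨t, htC⟩ * ⟨a, haC⟩ := Subtype.ext h
        rw [this, map_mul, hρt, one_mul]
    · rintro (h | h)
      · rcases (hρ c).1 h with h | h
        · exact Or.inl h
        · exact Or.inr (Or.inl h)
      · have h1 : ρ (c * ⟨a, haC⟩) = 1 := by rw [map_mul, h]; exact hbb
        rcases (hρ _).1 h1 with h2 | h2
        · have h3 : (c : G) * a = 1 := h2
          right; right; left
          calc (c : G) = c * a * a := by rw [mul_assoc, D.aa, mul_one]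
            _ = a := by rw [h3, one_mul]
        · have h3 : (c : G) * a = t := h2
          right; right; right
          calc (c : G) = c * a * a := by rw [mul_assoc, D.aa, mul_one]
            _ = t * a := by rw [h3]
  have hperfC := perfect D hna
  have hperf : _root_.commutator ↥X = ⊤ := by
    rw [eq_top_iff]
    intro x _
    obtain ⟨c, rfl⟩ := hρs x
    exact map_comm_le ρ' (by rw [hperfC]; trivial)
  have hE : ∀ e : E, (∀ e', e * e' = e' * e) → e = 1 := by
    intro e he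
    have h1 : e ∈ center E := mem_center_iff.2 fun g => (he g).symm
    rcases (inferInstance : (center E).Normal).eq_bot_or_eq_top with h2 | h2
    · rwa [h2, mem_bot] at h1
    · exfalso
      obtain ⟨c, d, hcd⟩ := hna
      apply hcd
      have h3 : c ∈ center E := by rw [h2]; trivial
      exact (mem_center_iff.1 h3 d).symm
  refine ⟨zpowers b, X, hyp_of_cover hZX hna σ hσs hσk hperf hcen ?_ (Or.inr (by rw [hZ2]; exact Nat.prime_two)), hZ2,
    hcen, σ, hσs, hσk⟩
  intro g hg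
  obtain ⟨c, rfl⟩ := hf g
  -- `c` centralises `C`
  have hct : ∀ x : C, ∃ δ : G, (δ = 1 ∨ δ = t) ∧ (c : G) * x * (c : G)⁻¹ = δ * x := by
    intro x
    have h1 : f c * ρ x = ρ x * f c := hg _ ⟨x, rfl⟩
    have h2 : f (c * i x * c⁻¹ * (i x)⁻¹) = 1 := by
      rw [map_mul, map_mul, map_mul, map_inv, map_inv]
      show f c * ρ x * (f c)⁻¹ * (ρ x)⁻¹ = 1
      rw [h1]; group
    refine ⟨(c : G) * x * (c : G)⁻¹ * (x : G)⁻¹, (hk _).1 h2, by group⟩
  have hδ : ∀ δ : G, (δ = 1 ∨ δ = t) → ∀ x : C, δ * x = x * δ := by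
    rintro δ (rfl | rfl) x
    · rw [one_mul, mul_one]
    · exact (mem_cent.1 x.2).1.symm
  let S : Subgroup C :=
    { carrier := {x | (c : G) * x * (c : G)⁻¹ = x}
      mul_mem' := fun {x x'} hx hx' => by
        have h1 : (c : G) * x * (c : G)⁻¹ = x := hx
        have h2 : (c : G) * x' * (c : G)⁻¹ = x' := hx'
        show (c : G) * ((x : G) * x') * (c : G)⁻¹ = x * x'
        calc (c : G) * ((x : G) * x') * (c : G)⁻¹ = ((c : G) * x * (c : G)⁻¹) * ((c : G) * x' * (c : G)⁻¹) := by group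
          _ = x * x' := by rw [h1, h2]
      one_mem' := by show (c : G) * 1 * (c : G)⁻¹ = 1; group
      inv_mem' := fun {x} hx => by
        have h1 : (c : G) * x * (c : G)⁻¹ = x := hx
        show (c : G) * (x : G)⁻¹ * (c : G)⁻¹ = (x : G)⁻¹
        calc (c : G) * (x : G)⁻¹ * (c : G)⁻¹ = ((c : G) * x * (c : G)⁻¹)⁻¹ := by group
          _ = (x : G)⁻¹ := by rw [h1] }
  have hS : _root_.commutator C ≤ S := by
    rw [_root_.commutator_def, Subgroup.commutator_le]
    intro x _ x' _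
    obtain ⟨δ, hδ1, h1⟩ := hct x
    obtain ⟨δ', hδ1', h2⟩ := hct x'
    have e1 := hδ δ hδ1
    have e2 := hδ δ' hδ1'
    show (c : G) * (⁅x, x'⁆ : C) * (c : G)⁻¹ = (⁅x, x'⁆ : C)
    have h3 : ((⁅x, x'⁆ : C) : G) = x * x' * (x : G)⁻¹ * (x' : G)⁻¹ := rfl
    rw [h3]
    have f1 : (x : G)⁻¹ * δ⁻¹ = δ⁻¹ * (x : G)⁻¹ := by
      have := congrArg (fun w => w⁻¹) (e1 x)
      simpa [mul_inv_rev] using this
    calc (c : G) * (x * x' * (x : G)⁻¹ * (x' : G)⁻¹) * (c : G)⁻¹
        = ((c : G) * x * (c : G)⁻¹) * ((c : G) * x' * (c : G)⁻¹) * ((c : G) * x * (c : G)⁻¹)⁻¹ *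
          ((c : G) * x' * (c : G)⁻¹)⁻¹ := by group
      _ = (δ * x) * (δ' * x') * (δ * x)⁻¹ * (δ' * x')⁻¹ := by rw [h1, h2]
      _ = x * x' * (x : G)⁻¹ * (x' : G)⁻¹ := by
          rw [e1 x, e2 x', mul_inv_rev, mul_inv_rev]
          have hδδ : δ * (x' * δ') * δ⁻¹ = x' * δ' := by
            have h5 : δ * (x' : G) = x' * δ := e1 x'
            have h6 : δ * δ' = δ' * δ := by
              rcases hδ1 with rfl | rfl
              · rw [one_mul, mul_one]
              · rcases hδ1' with rfl | rfl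
                · rw [one_mul, mul_one]
                · rfl
            calc δ * (x' * δ') * δ⁻¹ = (δ * x') * δ' * δ⁻¹ := by group
              _ = x' * (δ * δ') * δ⁻¹ := by rw [h5]; group
              _ = x' * (δ' * δ) * δ⁻¹ := by rw [h6]
              _ = x' * δ' := by group
          have hδx : δ' * (x : G)⁻¹ = (x : G)⁻¹ * δ' := by
            have h7 := e2 x
            calc δ' * (x : G)⁻¹ = (x : G)⁻¹ * (x * δ') * (x : G)⁻¹ := by group
              _ = (x : G)⁻¹ * (δ' * x) * (x : G)⁻¹ := by rw [h7]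
              _ = (x : G)⁻¹ * δ' := by group
          calc x * δ * (x' * δ') * (δ⁻¹ * (x : G)⁻¹) * (δ'⁻¹ * (x' : G)⁻¹)
              = x * (δ * (x' * δ') * δ⁻¹) * (x : G)⁻¹ * δ'⁻¹ * (x' : G)⁻¹ := by group
            _ = x * (x' * δ') * (x : G)⁻¹ * δ'⁻¹ * (x' : G)⁻¹ := by rw [hδδ]
            _ = x * x' * (δ' * (x : G)⁻¹) * δ'⁻¹ * (x' : G)⁻¹ := by group
            _ = x * x' * ((x : G)⁻¹ * δ') * δ'⁻¹ * (x' : G)⁻¹ := by rw [hδx]
            _ = x * x' * (x : G)⁻¹ * (x' : G)⁻¹ := by group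
  have hcomm : ∀ x : C, (c : G) * x = x * c := by
    intro x
    have h1 : x ∈ S := hS (by rw [hperfC]; trivial)
    have h2 : (c : G) * x * (c : G)⁻¹ = x := h1
    calc (c : G) * x = (c : G) * x * (c : G)⁻¹ * c := by group
      _ = x * c := by rw [h2]
  have hcC : (c : G) ∈ C := mem_cent.2 ⟨hcomm ⟨t, htC⟩, hcomm ⟨a, haC⟩⟩
  have hπc : π ⟨c, hcC⟩ = 1 := by
    apply hE
    intro e
    obtain ⟨x, rfl⟩ := D.surj e
    rw [← map_mul, ← map_mul]
    congr 1
    exact Subtype.ext (hcomm x)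
  have h5 : ρ ⟨c, hcC⟩ = f c := rfl
  rw [← h5]
  have h6 := (hσk (ρ' ⟨c, hcC⟩)).1 (by rw [hσ]; exact hπc)
  exact h6

end Cfsg.Agent.H819.FourQuot
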