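import Cfsg.Agent.H819.LiftTwoA
import Cfsg.Agent.MonsterU.InvTwoLat

/-!
# Lemma Y of S2198 (helper819)

`y ∈ C(z)` over the sign change on an octad `O` with `y² = z`: there is an octad `d` disjoint from `O` such that, for `i, j`
not in `O`, `y` commutes with the elements of `Q` over `4 e_i + 4 e_j` iff `i ∈ d ↔ j ∈ d`; the octad `d` is adapted to
the sign changes `g` normalising `⟨y⟩ ⟨z⟩`.
-/

set_option autoImplicit false
set_option linter.unusedSimpArgs false

namespace Cfsg.Agent.H819.LemY

open Cfsg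
open Cfsg.Agent.SporadicA.Co0Mono (signCo0)
open Cfsg.Agent.CoOneType.CoOneE (pr E)
open Cfsg.Agent.CoOneType.SignFacts (sup wt wt_cases mem_sup notMem_sup wt_add_allOne)
open Cfsg.Agent.MonsterU.Lam2 (L2 cl cl_surjective bf qf bf_add_left bf_add_right bf_comm bf_self add_self
  qf_zero IsType qf_cl_eq_zero bf_cl_eq_zero bf_nondeg cl_sub cl_eq qf_add cl_two)
open Cfsg.Agent.MonsterU.CoFrameL2 (f0 cong_iff_cl pr_smul_cl)
open Cfsg.Agent.MonsterU.InvTwoLat (Cl IsEps isEps_sign exists_form_mod exists_cl even_of_four even_of_zero pr_coe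
  card_words)
open Cfsg.Agent.Leech.Basic (chi chi_mem chi_not_mem)
open Cfsg.Agent.Leech.Code (Words symmDiff_mem even_inter)
open Cfsg.Agent.MonsterU.Ch
open Cfsg.Agent.MonsterU
open Cfsg.Agent.H819.LiftLat (fix_f0 sum_mul_four)
open Cfsg.Agent.SporadicStructure.Co0Base (e8)
open Cfsg.Spor (Co1)

/-! ### Lattice facts -/

theorem dot_pr (v : leechLattice) (i j : GolayPt) :
    dotInt (v : GolayPt → ℤ) (InvTwoLat.pr i j : GolayPt → ℤ) =
      4 * ((v : GolayPt → ℤ) i + (v : GolayPt → ℤ) j) := by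
  have h : ∀ k, (v : GolayPt → ℤ) k * (InvTwoLat.pr i j : GolayPt → ℤ) k =
      (if k = i then 4 * (v : GolayPt → ℤ) i else 0) + (if k = j then 4 * (v : GolayPt → ℤ) j else 0) := by
    intro k
    rw [pr_coe]
    split_ifs with h1 h2 h2
    · subst h1; subst h2; ring
    · subst h1; ring
    · subst h2; ring
    · ring
  show ∑ k, (v : GolayPt → ℤ) k * (InvTwoLat.pr i j : GolayPt → ℤ) k = _
  rw [Finset.sum_congr rfl fun k _ => h k, Finset.sum_add_distrib, Finset.sum_ite_eq', Finset.sum_ite_eq',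
    if_pos (Finset.mem_univ _), if_pos (Finset.mem_univ _)]
  ring

theorem dot_e8 (v : leechLattice) (i : GolayPt) :
    dotInt (v : GolayPt → ℤ) (e8 i : GolayPt → ℤ) = 8 * (v : GolayPt → ℤ) i := by
  show ∑ k, (v : GolayPt → ℤ) k * (e8 i : GolayPt → ℤ) k = _
  have h : ∀ k, (v : GolayPt → ℤ) k * (e8 i : GolayPt → ℤ) k =
      if k = i then 8 * (v : GolayPt → ℤ) i else 0 := by
    intro k
    rw [CoFrame.coe_e8]
    split_ifs with h1
    · subst h1; ring
    · ring
  rw [Finset.sum_congr rfl fun k _ => h k, Finset.sum_ite_eq', if_pos (Finset.mem_univ _)]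

theorem fix_pr {c : golayCode} {i j : GolayPt} (hi : i ∉ sup c) (hj : j ∉ sup c) :
    pr (signCo0 c) • cl (InvTwoLat.pr i j) = cl (InvTwoLat.pr i j) := by
  rw [pr_smul_cl]
  congr 1
  apply Subtype.ext
  funext k
  rw [isEps_sign c (InvTwoLat.pr i j) k]
  split_ifs with hk
  · rw [pr_coe, if_neg (fun h : k = i => hi (by rw [← h]; exact hk)),
      if_neg (fun h : k = j => hj (by rw [← h]; exact hk))]; ring
  · rfl

/-- a vector with all coordinates divisible by four has a singular class -/
theorem qf_of_four {x : leechLattice} (h : Cl (x : GolayPt → ℤ) ∅) : qf (cl x) = 0 := by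
  have h4 := fun i => h.dvd i
  choose a ha using h4
  have h2 := even_of_four x a ha
  rw [qf_cl_eq_zero]
  have h1 : sqNorm (x : GolayPt → ℤ) = 16 * ∑ i, a i ^ 2 := by
    show ∑ i, (x : GolayPt → ℤ) i ^ 2 = _
    rw [Finset.mul_sum]
    exact Finset.sum_congr rfl fun i _ => by rw [ha i]; ring
  have h3 : (2 : ℤ) ∣ ∑ i, a i ^ 2 - ∑ i, a i := by
    rw [← Finset.sum_sub_distrib]
    refine Finset.dvd_sum fun i _ => ?_
    generalize a i = t
    have : t ^ 2 - t = (t - 1) * t := by ring
    rw [this]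
    have h := Int.even_mul_succ_self (t - 1)
    rw [sub_add_cancel] at h
    exact h.two_dvd
  rw [h1]
  omega

theorem bf_pr {x : leechLattice} {d : Finset GolayPt} (h : Cl (x : GolayPt → ℤ) d) (i j : GolayPt) :
    bf (cl x) (cl (InvTwoLat.pr i j)) = 0 ↔ (i ∈ d ↔ j ∈ d) := by
  rw [bf_cl_eq_zero, dot_pr]
  have hi := h i
  have hj := h j
  unfold chi at hi hj
  by_cases h1 : i ∈ d <;> by_cases h2 : j ∈ d <;> simp only [h1, h2, if_true, if_false, iff_true, iff_false,
    not_true_eq_false, not_false_eq_true] at hi hj ⊢ <;> omega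

theorem bf_f0 {x : leechLattice} {d : Finset GolayPt} (h : Cl (x : GolayPt → ℤ) d) : bf (cl x) f0 = 0 := by
  show bf (cl x) (cl (e8 none)) = 0
  rw [bf_cl_eq_zero, dot_e8]
  have hi := h none
  unfold chi at hi
  split_ifs at hi <;> omega

/-- The combinatorial part of the invariance. -/
theorem inv_oct {O F d : Finset GolayPt} (hO : O ∈ octads) (hF : F ∈ octads) (hOF : (F ∩ O).card = 4)
    (hd : d ∈ octads) (hdO : Disjoint d O) {B : Finset GolayPt} (hB : B ∈ Words)
    (hBO : ∀ i, i ∉ O → (i ∈ B ↔ i ∈ F ∧ i ∈ d)) : Disjoint F d ∨ F \ O ⊆ d := by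
  obtain ⟨hOw, hO8⟩ := hO
  obtain ⟨hFw, hF8⟩ := hF
  obtain ⟨hdw, hd8⟩ := hd
  have h1 : B \ O = F ∩ d := by
    ext i
    rw [Finset.mem_sdiff, Finset.mem_inter]
    constructor
    · rintro ⟨h2, h3⟩
      exact (hBO i h3).1 h2
    · intro h2
      have h3 : i ∉ O := Finset.disjoint_left.1 hdO h2.2
      exact ⟨(hBO i h3).2 h2, h3⟩
  have h2 : F ∩ d ⊆ F \ O := by
    intro i hi
    rw [Finset.mem_inter] at hi
    exact Finset.mem_sdiff.2 ⟨hi.1, Finset.disjoint_left.1 hdO hi.2⟩
  have h3 : (F \ O).card = 4 := by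
    have := Finset.card_sdiff_add_card_inter F O
    omega
  have h4 := Finset.card_le_card h2
  obtain ⟨k, hk⟩ := even_inter hFw hdw
  have h5 : (F ∩ d).card = 0 ∨ (F ∩ d).card = 2 ∨ (F ∩ d).card = 4 := by omega
  rcases h5 with h5 | h5 | h5
  · left
    rw [Finset.card_eq_zero] at h5
    exact Finset.disjoint_iff_inter_eq_empty.2 h5
  · exfalso
    have h6 := Finset.card_sdiff_add_card_inter B O
    rw [h1, h5] at h6
    have h7 : (B ∩ O).card ≤ 8 := hO8 ▸ Finset.card_le_card Finset.inter_subset_right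
    have h8 : B.card = 8 := by
      rcases card_words hB with h | h | h | h | h <;> omega
    have h9 := Cfsg.Agent.SporadicA.GolayBase.card_symmDiff_add B O
    rcases card_words (symmDiff_mem hB hOw) with h | h | h | h | h <;> omega
  · right
    have h6 : F ∩ d = F \ O := Finset.eq_of_subset_of_card_le h2 (by omega)
    rw [← h6]
    exact Finset.inter_subset_right

/-! ### Lemma Y -/

variable {G : Type*} [Group G] {Q : Subgroup G} {z : G} {eta : G → L2}
  {pi : Subgroup.centralizer ({z} : Set G) →* Co1}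

/-- The octad of an element `y` over the sign change on `c` with `y² = z`. -/
structure YOct (_h : Chart Q z eta pi) (c : golayCode) (y : Subgroup.centralizer ({z} : Set G))
    (d : Finset GolayPt) : Prop where
  oct : d ∈ octads
  disj : Disjoint d (sup c)
  comm : ∀ i j, i ∉ sup c → j ∉ sup c → ∀ q ∈ Q, eta q = cl (InvTwoLat.pr i j) →
    ((y : G) * q = q * y ↔ (i ∈ d ↔ j ∈ d))
  comm_f0 : ∀ q ∈ Q, eta q = f0 → (y : G) * q = q * y
  inv : ∀ (e : golayCode) (g : Subgroup.centralizer ({z} : Set G)), wt e = 8 → (sup e ∩ sup c).card = 4 →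
    pi g = pr (signCo0 e) → ((g : G) * y * (g : G)⁻¹ = y ∨ (g : G) * y * (g : G)⁻¹ = y * z) →
    Disjoint (sup e) d ∨ sup e \ sup c ⊆ d

/-- **Lemma Y.** -/
theorem exists_yOct (h : Chart Q z eta pi) {c : golayCode} (hc : wt c = 8)
    {x₀ y : Subgroup.centralizer ({z} : Set G)} (hx : pi x₀ = pr (signCo0 c)) (hx2 : (x₀ : G) * x₀ = 1)
    (hxc : ∀ q ∈ Q, pr (signCo0 c) • eta q = eta q → (x₀ : G) * q = q * x₀)
    (hy : pi y = pr (signCo0 c)) (hyy : (y : G) * y = z) : ∃ d, YOct h c y d := by
  have hg : pr (signCo0 c) * pr (signCo0 c) = 1 := by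
    rw [← map_mul, SporadicA.Co0Mono.signCo0_mul_self, map_one]
  have hOct : sup c ∈ octads := (CoOneType.CoOneE.sup_mem_octads c).2 hc
  -- `y = x₀ q`
  obtain ⟨q, hq, hyq⟩ : ∃ q ∈ Q, (y : G) = x₀ * q :=
    ⟨(x₀ : G)⁻¹ * y, h.pi_eq.1 (hx.trans hy.symm), by group⟩
  have hxz := Subgroup.mem_centralizer_singleton_iff.1 x₀.2
  have hxi : (x₀ : G)⁻¹ = x₀ := inv_eq_of_mul_eq_one_left hx2
  have hcq := h.large.conj_mem x₀ hxz q hq
  have huf : pr (signCo0 c) • eta q = eta q := by
    apply Lam2.eq_of_add_eq_zero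
    rw [← hx, ← h.eta_conj x₀ q hq, ← h.eta_mul _ hcq _ hq]
    have : (x₀ : G) * q * (x₀ : G)⁻¹ * q = y * y := by rw [hxi, hyq]; group
    rw [this, hyy, h.eta_z]
  have hxq := hxc q hq huf
  have hqu : qf (eta q) = 1 := by
    rw [← h.sq_z hq]
    calc q * q = (x₀ * x₀) * (q * q) := by rw [hx2, one_mul]
      _ = x₀ * (x₀ * q) * q := by group
      _ = x₀ * (q * x₀) * q := by rw [hxq]
      _ = y * y := by rw [hyq]; group
      _ = z := hyy
  set u := eta q with hu
  -- commuting with `y`
  have hcomm : ∀ p ∈ Q, pr (signCo0 c) • eta p = eta p → ((y : G) * p = p * y ↔ bf u (eta p) = 0) := by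
    intro p hp hpf
    rw [← h.comm_iff hq hp, hyq]
    have h1 := hxc p hp hpf
    constructor
    · intro h2
      have h3 : (x₀ : G) * (q * p) = x₀ * (p * q) := by
        calc (x₀ : G) * (q * p) = x₀ * q * p := by group
          _ = p * x₀ * q := by rw [h2]; group
          _ = x₀ * (p * q) := by rw [← h1]; group
      exact mul_left_cancel h3
    · intro h2
      calc (x₀ : G) * q * p = x₀ * (q * p) := by group
        _ = x₀ * p * q := by rw [h2]; group
        _ = p * (x₀ * q) := by rw [h1]; group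
  -- the form of Lemma X
  obtain ⟨x, hxu⟩ := cl_surjective u
  obtain ⟨r, w, d, hd, hdO, hCl⟩ := exists_form_mod hOct (isEps_sign c) x (by
    have h1 : cl x = cl (signCo0 c • x) := by rw [← pr_smul_cl, hxu, huf]
    exact cl_eq.1 h1)
  set x' := x + (r - signCo0 c • r) + 2 • w with hx'
  have hclx : cl x' = u + (pr (signCo0 c) • cl r + cl r) := by
    rw [hx', map_add, map_add, cl_two, add_zero, hxu, cl_sub, pr_smul_cl, add_comm (cl r)]
  have hbf : ∀ v, pr (signCo0 c) • v = v → bf (cl x') v = bf u v := by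
    intro v hv
    rw [hclx, bf_add_left, bf_comm (pr (signCo0 c) • cl r + cl r), LiftDual.bf_com hg, hv, add_self,
      Lam2.bf_zero_left, add_zero]
  have hqf : qf (cl x') = 1 := by
    rw [hclx, qf_add, hqu, LiftLat.qf_comm_octad hc, LiftDual.bf_com hg, huf, add_self, Lam2.bf_zero_left,
      add_zero, add_zero]
  have hdo : d ∈ octads := by
    rcases hd with rfl | hd
    · exfalso
      rw [qf_of_four hCl] at hqf
      exact absurd hqf (by decide)
    · exact hd
  refine ⟨d, hdo, hdO, ?_, ?_, ?_⟩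
  · intro i j hi hj p hp hpe
    have hf := fix_pr hi hj
    rw [hcomm p hp (by rw [hpe, hf]), hpe, ← hbf _ hf]
    exact bf_pr hCl i j
  · intro p hp hpe
    rw [hcomm p hp (by rw [hpe]; exact fix_f0 c), hpe, ← hbf _ (fix_f0 c)]
    exact bf_f0 hCl
  · intro e g he hec hge hgy
    have hgz := Subgroup.mem_centralizer_singleton_iff.1 g.2
    have hce : pr (signCo0 c) * pr (signCo0 e) = pr (signCo0 e) * pr (signCo0 c) := by
      rw [← map_mul, ← map_mul, ← SporadicA.Co0Mono.signCo0_add, ← SporadicA.Co0Mono.signCo0_add, add_comm]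
    have hge2 : pr (signCo0 e) * pr (signCo0 e) = 1 := by
      rw [← map_mul, SporadicA.Co0Mono.signCo0_mul_self, map_one]
    -- the invariance of `w_y`
    have h1 : ∀ v, pr (signCo0 c) • v = v → bf (pr (signCo0 e) • u + u) v = 0 := by
      intro v hv
      obtain ⟨p, hp, hpv⟩ := h.eta_surj v
      have hgp := h.large.conj_mem g hgz p hp
      have h2 := hcomm p hp (by rw [hpv]; exact hv)
      have h3 : eta ((g : G) * p * (g : G)⁻¹) = pr (signCo0 e) • v := by
        rw [h.eta_conj g p hp, hge, hpv]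
      have h4 := hcomm _ hgp (by
        rw [h3, smul_smul, hce, mul_smul, hv])
      have h5 : (y : G) * p = p * y ↔ (y : G) * (g * p * (g : G)⁻¹) = g * p * (g : G)⁻¹ * y := by
        have h6 : (y : G) * (g * p * (g : G)⁻¹) = g * p * (g : G)⁻¹ * y ↔
            (g : G) * y * (g : G)⁻¹ * (g * p * (g : G)⁻¹) = g * p * (g : G)⁻¹ * (g * y * (g : G)⁻¹) := by
          rcases hgy with h7 | h7
          · rw [h7]
          · rw [h7]
            have h8 := h.large.comm_z _ hgp
            generalize (g : G) * p * (g : G)⁻¹ = t at h8 ⊢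
            constructor
            · intro h9
              calc (y : G) * z * t = y * (z * t) := by group
                _ = y * t * z := by rw [← h8]; group
                _ = t * (y * z) := by rw [h9]; group
            · intro h9
              have h10 : (y : G) * t * z = t * y * z := by
                calc (y : G) * t * z = y * (t * z) := by group
                  _ = y * z * t := by rw [h8]; group
                  _ = t * y * z := by rw [h9]; group
              exact mul_right_cancel h10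
        rw [h6]
        constructor
        · intro h9
          calc (g : G) * y * (g : G)⁻¹ * (g * p * (g : G)⁻¹) = g * (y * p) * (g : G)⁻¹ := by group
            _ = g * (p * y) * (g : G)⁻¹ := by rw [h9]
            _ = g * p * (g : G)⁻¹ * (g * y * (g : G)⁻¹) := by group
        · intro h9
          have h10 : (g : G) * (y * p) * (g : G)⁻¹ = g * (p * y) * (g : G)⁻¹ := by
            calc (g : G) * (y * p) * (g : G)⁻¹ = (g : G) * y * (g : G)⁻¹ * (g * p * (g : G)⁻¹) := by group
              _ = g * p * (g : G)⁻¹ * (g * y * (g : G)⁻¹) := h9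
              _ = g * (p * y) * (g : G)⁻¹ := by group
          exact mul_left_cancel (mul_right_cancel h10)
      rw [h2, h4, h3, hpv] at h5
      have h6 : bf (pr (signCo0 e) • u) v = bf u (pr (signCo0 e) • v) := by
        rw [← Lam2.bf_smul1 (pr (signCo0 e)) (pr (signCo0 e) • u) v, LiftDual.smul_smul_self hge2]
      rw [bf_add_left, h6]
      generalize bf u v = a at h5 ⊢
      generalize bf u (pr (signCo0 e) • v) = b at h5 ⊢
      revert a b
      decide
    obtain ⟨t, ht⟩ := LiftDual.mem_com_of_bf hg h1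
    -- the same for `x'`
    obtain ⟨t', ht'⟩ : ∃ t', pr (signCo0 c) • cl t' + cl t' = pr (signCo0 e) • cl x' + cl x' := by
      obtain ⟨t₁, rfl⟩ := cl_surjective t
      refine ⟨t₁ + (signCo0 e • r + r), ?_⟩
      rw [hclx, map_add, map_add, ← pr_smul_cl]
      simp only [smul_add]
      rw [smul_smul (pr (signCo0 c)) (pr (signCo0 e)), hce, mul_smul]
      have e1 : pr (signCo0 c) • cl t₁ + (pr (signCo0 e) • pr (signCo0 c) • cl r + pr (signCo0 c) • cl r) +
          (cl t₁ + (pr (signCo0 e) • cl r + cl r)) = (pr (signCo0 c) • cl t₁ + cl t₁) +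
          (pr (signCo0 e) • pr (signCo0 c) • cl r + pr (signCo0 c) • cl r + pr (signCo0 e) • cl r + cl r) := by abel
      rw [e1, ht]
      abel
    rw [pr_smul_cl, pr_smul_cl, ← cl_sub, ← cl_sub] at ht'
    obtain ⟨w', hw'⟩ := cl_eq.1 ht'
    have hw : ∀ i, i ∉ sup c → (w' : GolayPt → ℤ) i = if i ∈ sup e then (x' : GolayPt → ℤ) i else 0 := by
      intro i hi
      have h2 := congrArg (fun v : leechLattice => (v : GolayPt → ℤ) i) hw'
      simp only [CoFrameAct.coe_sub' (signCo0 c • t' - t') (signCo0 e • x' - x'), CoFrameAct.sign_sub_coe,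
        InvTwoLat.coe_two] at h2
      rw [if_neg hi] at h2
      split_ifs at h2 ⊢ <;> omega
    obtain ⟨j, hjc, hje⟩ : ∃ j, j ∉ sup c ∧ j ∉ sup e := by
      by_contra hn
      push Not at hn
      have h2 : (Finset.univ : Finset GolayPt) ⊆ sup c ∪ sup e := by
        intro j _
        rw [Finset.mem_union]
        by_cases h3 : j ∈ sup c
        · exact Or.inl h3
        · exact Or.inr (hn j h3)
      have h3 := Finset.card_le_card h2
      have h4 := Finset.card_union_le (sup c) (sup e)
      have h5 : (sup c).card = 8 := hc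
      have h6 : (sup e).card = 8 := he
      rw [Finset.card_univ, Cfsg.Agent.Leech.Code.card_golayPt] at h3
      omega
    obtain ⟨B, hB, hBC⟩ := exists_cl (even_of_zero (t := w') (j := j) (by rw [hw j hjc, if_neg hje]))
    apply inv_oct hOct ((CoOneType.CoOneE.sup_mem_octads e).2 he) hec hdo hdO hB
    intro i hi
    have h2 := hBC i
    rw [hw i hi] at h2
    have h3 := hCl i
    unfold chi at h2 h3
    by_cases h4 : i ∈ B <;> by_cases h5 : i ∈ sup e <;> by_cases h6 : i ∈ d <;>
      simp only [h4, h5, h6, if_true, if_false, and_true, and_false, true_and, false_and, iff_true, iff_false,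
        true_iff, false_iff, not_true_eq_false, not_false_eq_true] at h2 h3 ⊢ <;> omega

end Cfsg.Agent.H819.LemY
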