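import Cfsg.Agent.H819.LiftLat

/-!
# Duality in `Λ / 2Λ` (helper819)
-/

set_option autoImplicit false

namespace Cfsg.Agent.H819.LiftDual

open Cfsg
open Cfsg.Agent.MonsterU.Lam2 (L2 cl cl_surjective cl_sub bf qf bf_add_left bf_add_right bf_cl_eq_zero
  qf_cl_eq_zero bf_comm bf_zero_left bf_zero_right bf_self bf_nondeg bf_smul1 add_self neg_eq
  eq_of_add_eq_zero)
open Cfsg.Spor (Co1)

/-- `bf x` as a linear form -/
noncomputable def bfl (x : L2) : L2 →ₗ[ZMod 2] ZMod 2 :=
  AddMonoidHom.toZModLinearMap 2 ⟨⟨fun y => bf x y, bf_zero_right x⟩, fun y y' => bf_add_right x y y'⟩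

theorem bfl_apply (x y : L2) : bfl x y = bf x y := rfl

/-- `x ↦ bf x` -/
noncomputable def bfL : L2 →ₗ[ZMod 2] Module.Dual (ZMod 2) L2 :=
  AddMonoidHom.toZModLinearMap 2 ⟨⟨fun x => bfl x, by
    ext y; exact bf_zero_left y⟩, fun x x' => by
    ext y; exact bf_add_left x x' y⟩

theorem bfL_apply (x y : L2) : bfL x y = bf x y := rfl

theorem bfL_injective : Function.Injective bfL := by
  rw [injective_iff_map_eq_zero]
  intro x hx
  apply bf_nondeg
  intro y
  rw [← bfL_apply, hx]
  rfl

theorem bfL_surjective : Function.Surjective bfL := by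
  rw [← LinearMap.injective_iff_surjective_of_finrank_eq_finrank]
  · exact bfL_injective
  · exact (Subspace.dual_finrank_eq).symm

/-- every linear form on a subspace is represented by a vector -/
theorem exists_dual (C : Submodule (ZMod 2) L2) (f : C →ₗ[ZMod 2] ZMod 2) :
    ∃ v : L2, ∀ x : C, bf v x = f x := by
  obtain ⟨g, hg⟩ := f.exists_extend
  obtain ⟨v, rfl⟩ := bfL_surjective g
  refine ⟨v, fun x => ?_⟩
  rw [← hg]
  rfl

/-- the fixed space -/
def fix (g : Co1) : Submodule (ZMod 2) L2 where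
  carrier := {x | g • x = x}
  add_mem' := by
    intro a b ha hb
    show g • (a + b) = a + b
    rw [smul_add]
    exact congrArg₂ (· + ·) ha hb
  zero_mem' := smul_zero g
  smul_mem' := by
    intro r a ha
    have : r = 0 ∨ r = 1 := by revert r; decide
    rcases this with rfl | rfl
    · rw [zero_smul]; exact smul_zero g
    · rw [one_smul]; exact ha

theorem mem_fix {g : Co1} {x : L2} : x ∈ fix g ↔ g • x = x := Iff.rfl

/-- the commutator space -/
noncomputable def com (g : Co1) : Submodule (ZMod 2) L2 where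
  carrier := {x | ∃ v, g • v + v = x}
  add_mem' := by
    rintro _ _ ⟨a, rfl⟩ ⟨b, rfl⟩
    exact ⟨a + b, by rw [smul_add]; abel⟩
  zero_mem' := ⟨0, by rw [smul_zero, add_zero]⟩
  smul_mem' := by
    rintro r _ ⟨a, rfl⟩
    have : r = 0 ∨ r = 1 := by revert r; decide
    rcases this with rfl | rfl
    · exact ⟨0, by rw [smul_zero, zero_smul, add_zero]⟩
    · exact ⟨a, by rw [one_smul]⟩

theorem mem_com {g : Co1} {x : L2} : x ∈ com g ↔ ∃ v, g • v + v = x := Iff.rfl

variable {g : Co1} (hg : g * g = 1)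
include hg

theorem smul_smul_self (x : L2) : g • g • x = x := by rw [smul_smul, hg, one_smul]

theorem bf_com (x v : L2) : bf x (g • v + v) = bf (g • x + x) v := by
  rw [bf_add_right, bf_add_left]
  congr 1
  rw [← bf_smul1 g x (g • v), smul_smul_self hg]

/-- `[V, g]^⊥ = C_V(g)` -/
theorem mem_fix_of_bf {x : L2} (hx : ∀ v, bf x (g • v + v) = 0) : g • x = x := by
  apply eq_of_add_eq_zero
  apply bf_nondeg
  intro v
  rw [← bf_com hg]
  exact hx v

/-- `C_V(g)^⊥ = [V, g]` -/
theorem mem_com_of_bf {x : L2} (hx : ∀ y, g • y = y → bf x y = 0) : ∃ v, g • v + v = x := by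
  by_contra hn
  obtain ⟨f, hf, hf2⟩ := Submodule.exists_le_ker_of_notMem (p := com g) (v := x) (fun h => hn h)
  obtain ⟨w, rfl⟩ := bfL_surjective f
  apply hf
  rw [bfL_apply, bf_comm]
  apply hx
  apply mem_fix_of_bf hg
  intro v
  exact hf2 ⟨v, rfl⟩

end Cfsg.Agent.H819.LiftDual
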