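import Cfsg.Agent.MonsterU.AmalGen
import Cfsg.Agent.SporadicA.LeechMin

/-!
# The fixed classes of a sign change in `Λ / 2Λ` (helper819)

* `qf_comm_octad` : the commutator space of a sign change on an octad is totally singular;
* `bf_fixed_dodecad` : the fixed space of a sign change on a dodecad is totally isotropic;
* `qf_octad` : a class fixed by the sign change on an octad and orthogonal to all `4 e_i - 4 e_j` fixed by it and to
  the frame class is singular;
* `exists_dual`, `mem_comm_of_bf` : duality.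
-/

set_option autoImplicit false

namespace Cfsg.Agent.H819.LiftLat

open Cfsg
open Cfsg.Agent.SporadicA
open Cfsg.Agent.SporadicA.Co1Simple (allOne)
open Cfsg.Agent.SporadicA.Co0Mono (signCo0 signCo0_smul signMap_apply sgn_zero sgn_one)
open Cfsg.Agent.SporadicA.LeechMin (even_or_odd)
open Cfsg.Agent.SporadicA.GolayWeight (even_card_inter)
open Cfsg.Agent.CoOneType.SignFacts
open Cfsg.Agent.CoOneType.CoOneE (pr E)
open Cfsg.Agent.MonsterU.CoFrame
open Cfsg.Agent.MonsterU.CoFrameAct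
open Cfsg.Agent.MonsterU.CoFrameL2 (cong_iff_cl pr_smul_cl f0 W12 cl_mem_W12)
open Cfsg.Agent.MonsterU.Lam2 (L2 cl cl_surjective cl_sub bf qf bf_add_left bf_add_right bf_cl_eq_zero
  qf_cl_eq_zero bf_comm bf_zero_left bf_zero_right bf_self bf_nondeg bf_smul1 add_self neg_eq)
open Cfsg.Agent.SporadicStructure.Co0Base (e8 e8_coe)
open Cfsg.Agent.SporadicStructure.LeechBase (zmod2_cases)
open Cfsg.Spor (Co1)

/-! ### sums -/

theorem sum_mul_four {S : Finset GolayPt} (hS : 4 ∣ S.card) {x y : GolayPt → ℤ} {a b : ℤ}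
    (hx : ∀ i ∈ S, (2 : ℤ) ∣ x i - a) (hy : ∀ i ∈ S, (2 : ℤ) ∣ y i - b)
    (hsx : (4 : ℤ) ∣ ∑ i ∈ S, x i) (hsy : (4 : ℤ) ∣ ∑ i ∈ S, y i) :
    (4 : ℤ) ∣ ∑ i ∈ S, x i * y i := by
  have h1 : (4 : ℤ) ∣ ∑ i ∈ S, (x i - a) * (y i - b) := by
    refine Finset.dvd_sum fun i hi => ?_
    have := mul_dvd_mul (hx i hi) (hy i hi)
    norm_num at this
    exact this
  have h2 : ∑ i ∈ S, x i * y i =
      ∑ i ∈ S, (x i - a) * (y i - b) + b * ∑ i ∈ S, x i + a * ∑ i ∈ S, y i - a * b * (S.card : ℤ) := by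
    have h3 : (a * b * (S.card : ℤ)) = ∑ _i ∈ S, a * b := by
      rw [Finset.sum_const, nsmul_eq_mul]; ring
    rw [h3, Finset.mul_sum, Finset.mul_sum, ← Finset.sum_add_distrib, ← Finset.sum_add_distrib,
      ← Finset.sum_sub_distrib]
    exact Finset.sum_congr rfl fun i _ => by ring
  have h4 : (4 : ℤ) ∣ (S.card : ℤ) := by exact_mod_cast hS
  rw [h2]
  exact dvd_sub (dvd_add (dvd_add h1 (hsx.mul_left _)) (hsy.mul_left _)) (h4.mul_left _)

theorem sum_sq_eight {S : Finset GolayPt} (hS : 8 ∣ S.card) {x : GolayPt → ℤ}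
    (hx : ∀ i ∈ S, ∀ j ∈ S, (2 : ℤ) ∣ x i - x j) (hsx : (4 : ℤ) ∣ ∑ i ∈ S, x i) :
    (8 : ℤ) ∣ ∑ i ∈ S, x i ^ 2 := by
  by_cases h0 : ∀ i ∈ S, (2 : ℤ) ∣ x i
  · have h1 : ∀ i ∈ S, x i = 2 * (x i / 2) := fun i hi => (Int.mul_ediv_cancel' (h0 i hi)).symm
    have h2 : ∑ i ∈ S, x i = 2 * ∑ i ∈ S, x i / 2 := by
      rw [Finset.mul_sum]; exact Finset.sum_congr rfl h1
    have h3 : ∑ i ∈ S, x i ^ 2 = 4 * ∑ i ∈ S, (x i / 2) ^ 2 := by
      rw [Finset.mul_sum]
      refine Finset.sum_congr rfl fun i hi => ?_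
      have := h1 i hi
      generalize x i / 2 = t at this ⊢
      rw [this]; ring
    have h4 : (2 : ℤ) ∣ ∑ i ∈ S, (x i / 2) ^ 2 - ∑ i ∈ S, x i / 2 := by
      rw [← Finset.sum_sub_distrib]
      refine Finset.dvd_sum fun i _ => ?_
      generalize x i / 2 = t
      have : t ^ 2 - t = (t - 1) * t := by ring
      rw [this]
      have h := Int.even_mul_succ_self (t - 1)
      rw [sub_add_cancel] at h
      exact h.two_dvd
    omega
  · push Not at h0
    obtain ⟨j, hj, hj2⟩ := h0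
    have h1 : (8 : ℤ) ∣ ∑ i ∈ S, (x i ^ 2 - 1) := by
      refine Finset.dvd_sum fun i hi => ?_
      have h2 := hx i hi j hj
      obtain ⟨t, ht⟩ : ∃ t, x i = 2 * t + 1 := ⟨x i / 2, by omega⟩
      rw [ht]
      have : (2 * t + 1) ^ 2 - 1 = 4 * (t * (t + 1)) := by ring
      rw [this]
      obtain ⟨k, hk⟩ := (Int.even_mul_succ_self t).two_dvd
      rw [hk]
      exact ⟨k, by ring⟩
    have h2 : ∑ i ∈ S, x i ^ 2 = ∑ i ∈ S, (x i ^ 2 - 1) + (S.card : ℤ) := by
      rw [Finset.sum_sub_distrib, Finset.sum_const, nsmul_eq_mul]; ring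
    have h4 : (8 : ℤ) ∣ (S.card : ℤ) := by exact_mod_cast hS
    rw [h2]
    exact dvd_add h1 h4

/-- sum of the coordinates of a code word over another word -/
theorem even_sum_word {y : GolayPt → ℤ} (hy : (fun i => ((y i : ℤ) : ZMod 2)) ∈ golayCode) (c : golayCode) :
    (2 : ℤ) ∣ ∑ i ∈ sup c, y i := by
  obtain ⟨k, hk⟩ := even_card_inter c.2 hy
  have h1 : (((∑ i ∈ sup c, y i : ℤ)) : ZMod 2) = 0 := by
    rw [Int.cast_sum]
    have h2 : ∑ i ∈ sup c, ((y i : ℤ) : ZMod 2) =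
        ∑ i ∈ sup c ∩ support₂ (fun i => ((y i : ℤ) : ZMod 2)), (1 : ZMod 2) := by
      rw [← Finset.sum_subset (Finset.inter_subset_left
        (s₁ := sup c) (s₂ := support₂ (fun i => ((y i : ℤ) : ZMod 2))))]
      · refine Finset.sum_congr rfl fun i hi => ?_
        have := (Finset.mem_inter.1 hi).2
        rw [Cfsg.Agent.SporadicStructure.LeechBase.mem_support₂] at this
        exact (zmod2_cases _).resolve_left this
      · intro i hi hi2
        rw [Finset.mem_inter, not_and] at hi2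
        have := hi2 hi
        rw [Cfsg.Agent.SporadicStructure.LeechBase.mem_support₂, not_not] at this
        exact this
    rw [h2, Finset.sum_const, nsmul_eq_mul, mul_one]
    show (((support₂ (c : GolayPt → ZMod 2)) ∩ support₂ (fun i => ((y i : ℤ) : ZMod 2))).card : ZMod 2) = 0
    rw [hk]
    push_cast
    rw [← two_mul]
    show (2 : ZMod 2) * _ = 0
    rw [show (2 : ZMod 2) = 0 from rfl, zero_mul]
  exact (ZMod.intCast_zmod_eq_zero_iff_dvd _ 2).1 h1

/-! ### the commutators of an octad -/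

theorem cl_sign_add (c : golayCode) (v : leechLattice) :
    cl (signCo0 c • v) + cl v = cl (signCo0 c • v - v) := (cl_sub _ _).symm

theorem sqNorm_sign_sub (c : golayCode) (v : leechLattice) :
    sqNorm ((signCo0 c • v - v : leechLattice) : GolayPt → ℤ) = 4 * ∑ i ∈ sup c, (v : GolayPt → ℤ) i ^ 2 := by
  show ∑ i, ((signCo0 c • v - v : leechLattice) : GolayPt → ℤ) i ^ 2 = _
  rw [Finset.mul_sum, ← Finset.sum_subset (Finset.subset_univ (sup c))]
  · refine Finset.sum_congr rfl fun i hi => ?_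
    rw [sign_sub_coe, if_pos hi]; ring
  · intro i _ hi
    rw [sign_sub_coe, if_neg hi]; ring

/-- **The commutator space of a sign change on an octad is totally singular.** -/
theorem qf_comm_octad {c : golayCode} (hc : wt c = 8) (x : L2) : qf (pr (signCo0 c) • x + x) = 0 := by
  obtain ⟨v, rfl⟩ := cl_surjective x
  rw [pr_smul_cl, cl_sign_add, qf_cl_eq_zero, sqNorm_sign_sub]
  have h8 : (8 : ℤ) ∣ ∑ i ∈ sup c, (v : GolayPt → ℤ) i ^ 2 := by
    rcases even_or_odd v.2 with ⟨y, hy, -, hcode⟩ | ⟨m, w, hm, hw, -, -⟩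
    · have h1 : ∑ i ∈ sup c, (v : GolayPt → ℤ) i ^ 2 = 4 * ∑ i ∈ sup c, y i ^ 2 := by
        rw [Finset.mul_sum]
        exact Finset.sum_congr rfl fun i _ => by rw [hy i]; ring
      have h2 := even_sum_word hcode c
      have h4 : (2 : ℤ) ∣ ∑ i ∈ sup c, y i ^ 2 - ∑ i ∈ sup c, y i := by
        rw [← Finset.sum_sub_distrib]
        refine Finset.dvd_sum fun i _ => ?_
        generalize y i = t
        have : t ^ 2 - t = (t - 1) * t := by ring
        rw [this]
        have h := Int.even_mul_succ_self (t - 1)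
        rw [sub_add_cancel] at h
        exact h.two_dvd
      omega
    · have h1 : (8 : ℤ) ∣ ∑ i ∈ sup c, ((v : GolayPt → ℤ) i ^ 2 - 1) := by
        refine Finset.dvd_sum fun i hi => ?_
        obtain ⟨t, ht⟩ : ∃ t, (v : GolayPt → ℤ) i = 2 * t + 1 := ⟨(v : GolayPt → ℤ) i / 2, by
          rw [hw i]; omega⟩
        rw [ht]
        have : (2 * t + 1) ^ 2 - 1 = 4 * (t * (t + 1)) := by ring
        rw [this]
        obtain ⟨k, hk⟩ := (Int.even_mul_succ_self t).two_dvd
        rw [hk]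
        exact ⟨k, by ring⟩
      have h2 : ∑ i ∈ sup c, (v : GolayPt → ℤ) i ^ 2 =
          ∑ i ∈ sup c, ((v : GolayPt → ℤ) i ^ 2 - 1) + ((sup c).card : ℤ) := by
        rw [Finset.sum_sub_distrib, Finset.sum_const, nsmul_eq_mul]; ring
      have h4 : ((sup c).card : ℤ) = 8 := by exact_mod_cast hc
      rw [h2, h4]
      exact dvd_add h1 (dvd_refl _)
  omega

/-! ### fixed classes -/

/-- the restriction of a fixed vector to the word is in the lattice -/
theorem fixed_rest {c : golayCode} {v : leechLattice} (h : Cong (signCo0 c • v) v) :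
    ∃ y ∈ leechLattice, ∀ i, y i = if i ∈ sup c then -(v : GolayPt → ℤ) i else 0 := by
  obtain ⟨y, hy, h1⟩ := (cong_iff_coe _ _).1 h
  refine ⟨y, hy, fun i => ?_⟩
  have h2 := h1 i
  rw [sign_coe] at h2
  split_ifs at h2 ⊢ <;> omega

/-- a fixed vector is even, and its half has sum divisible by four on the word -/
theorem fixed_sum {c : golayCode} (h0 : c ≠ 0) (h1 : c ≠ allOne) {v : leechLattice} (h : Cong (signCo0 c • v) v) :
    v ∈ V23 ∧ (8 : ℤ) ∣ ∑ i ∈ sup c, (v : GolayPt → ℤ) i ∧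
      ∃ d : golayCode, ∀ i, i ∈ sup d ↔ i ∈ sup c ∧ ¬ (4 : ℤ) ∣ (v : GolayPt → ℤ) i := by
  obtain ⟨y, hy, h2⟩ := fixed_rest h
  obtain ⟨i₀, hi₀⟩ : ∃ i, i ∈ sup c := by
    by_contra hn
    push Not at hn
    apply h0
    apply Subtype.ext
    funext i
    exact (notMem_sup c i).1 (hn i)
  obtain ⟨i₁, hi₁⟩ : ∃ i, i ∉ sup c := by
    by_contra hn
    push Not at hn
    apply h1
    apply Subtype.ext
    funext i
    exact (mem_sup c i).1 (hn i)
  rcases even_or_odd hy with ⟨a, ha, hs, hcode⟩ | ⟨m, w, hm, hw, -, -⟩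
  · have hv : ∀ i ∈ sup c, (v : GolayPt → ℤ) i = -(2 * a i) := by
      intro i hi
      have := h2 i
      rw [if_pos hi, ha i] at this
      omega
    have ha0 : ∀ i, i ∉ sup c → a i = 0 := by
      intro i hi
      have := h2 i
      rw [if_neg hi, ha i] at this
      omega
    refine ⟨mem_V23_of_one (i := i₀) ?_, ?_, ⟨⟨_, hcode⟩, fun i => ?_⟩⟩
    · rw [hv i₀ hi₀]; exact ⟨-a i₀, by ring⟩
    · have h3 : ∑ i ∈ sup c, (v : GolayPt → ℤ) i = -(2 * ∑ i, a i) := by
        rw [← Finset.sum_subset (Finset.subset_univ (sup c)) (fun i _ hi => ha0 i hi), Finset.mul_sum,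
          ← Finset.sum_neg_distrib]
        exact Finset.sum_congr rfl hv
      rw [h3]
      omega
    · rw [mem_sup]
      show ((a i : ℤ) : ZMod 2) = 1 ↔ _
      have key : ((a i : ℤ) : ZMod 2) = 1 ↔ ¬ (2 : ℤ) ∣ a i := by
        have h4 := ZMod.intCast_zmod_eq_zero_iff_dvd (a i) 2
        push_cast at h4
        rw [← h4]
        rcases zmod2_cases ((a i : ℤ) : ZMod 2) with h5 | h5 <;> rw [h5] <;> decide
      rw [key]
      by_cases hi : i ∈ sup c
      · rw [hv i hi]
        constructor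
        · intro h5
          exact ⟨hi, by omega⟩
        · rintro ⟨-, h5⟩
          omega
      · constructor
        · intro h5
          rw [ha0 i hi] at h5
          exact absurd (dvd_zero _) h5
        · rintro ⟨h5, -⟩
          exact absurd h5 hi
  · exfalso
    have := h2 i₁
    rw [if_neg hi₁, hw i₁] at this
    omega

theorem sum_half {v : leechLattice} (hv : v ∈ V23) (S : Finset GolayPt) :
    ∑ i ∈ S, (v : GolayPt → ℤ) i = 2 * ∑ i ∈ S, (v : GolayPt → ℤ) i / 2 := by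
  rw [Finset.mul_sum]
  exact Finset.sum_congr rfl fun i _ => (Int.mul_ediv_cancel' (hv i)).symm

theorem eight_dvd_sum {v : leechLattice} (hv : v ∈ V23) : (8 : ℤ) ∣ ∑ i, (v : GolayPt → ℤ) i := by
  rcases even_or_odd v.2 with ⟨a, ha, hs, -⟩ | ⟨m, w, hm, hw, -, -⟩
  · have : ∑ i, (v : GolayPt → ℤ) i = 2 * ∑ i, a i := by
      rw [Finset.mul_sum]; exact Finset.sum_congr rfl fun i _ => ha i
    rw [this]; omega
  · exfalso
    have h1 := hv none
    rw [hw none] at h1
    omega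

/-- a word contained in a dodecad -/
theorem sub_dodecad {c d : golayCode} (hc : wt c = 12) (h : ∀ i ∈ sup d, i ∈ sup c) :
    (∀ i, i ∉ sup d) ∨ ∀ i ∈ sup c, i ∈ sup d := by
  have h1 : sup d ⊆ sup c := h
  have h2 : sup (c + d) = sup c \ sup d := by
    ext i
    have e : (((c + d : golayCode) : GolayPt → ZMod 2) i) =
      (c : GolayPt → ZMod 2) i + (d : GolayPt → ZMod 2) i := rfl
    rw [Finset.mem_sdiff, mem_sup, mem_sup, mem_sup, e]
    have h3 : (d : GolayPt → ZMod 2) i = 1 → (c : GolayPt → ZMod 2) i = 1 := by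
      intro h4
      exact (mem_sup c i).1 (h i ((mem_sup d i).2 h4))
    generalize (c : GolayPt → ZMod 2) i = a at h3 ⊢
    generalize (d : GolayPt → ZMod 2) i = b at h3 ⊢
    revert a b
    decide
  have h3 : wt (c + d) + wt d = 12 := by
    unfold wt
    rw [h2, Finset.card_sdiff_add_card_eq_card h1]
    exact hc
  rcases wt_cases d with h4 | h4 | h4 | h4 | h4
  · left
    intro i hi
    unfold wt at h4
    rw [Finset.card_eq_zero] at h4
    rw [h4] at hi
    exact absurd hi (Finset.notMem_empty i)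
  · exfalso
    rcases wt_cases (c + d) with h5 | h5 | h5 | h5 | h5 <;> omega
  · right
    have h5 : sup d = sup c := Finset.eq_of_subset_of_card_le h1 (by
      show (sup c).card ≤ (sup d).card
      unfold wt at hc h4
      omega)
    intro i hi
    rw [h5]; exact hi
  · omega
  · omega

theorem ne_zero_of_wt {c : golayCode} (hc : wt c ≠ 0) : c ≠ 0 := by
  rintro rfl
  apply hc
  unfold wt
  rw [Finset.card_eq_zero, Finset.eq_empty_iff_forall_notMem]
  intro i
  rw [notMem_sup]; rfl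

theorem ne_allOne_of_wt {c : golayCode} (hc : wt c ≠ 24) : c ≠ allOne := by
  rintro rfl
  apply hc
  have h1 := wt_add_allOne allOne
  rw [Cfsg.Agent.CoOneType.CoOneE.allOne_add_self] at h1
  have h2 : wt (0 : golayCode) = 0 := by
    unfold wt
    rw [Finset.card_eq_zero, Finset.eq_empty_iff_forall_notMem]
    intro i
    rw [notMem_sup]; rfl
  omega

/-- a fixed vector of a dodecad -/
theorem fixed_dodecad {c : golayCode} (hc : wt c = 12) {v : leechLattice} (h : Cong (signCo0 c • v) v) :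
    v ∈ V23 ∧ (4 : ℤ) ∣ ∑ i ∈ sup c, (v : GolayPt → ℤ) i / 2 ∧
      ∃ a : ℤ, ∀ i ∈ sup c, (2 : ℤ) ∣ (v : GolayPt → ℤ) i / 2 - a := by
  obtain ⟨h1, h2, d, hd⟩ := fixed_sum (ne_zero_of_wt (by omega)) (ne_allOne_of_wt (by omega)) h
  refine ⟨h1, ?_, ?_⟩
  · rw [sum_half h1] at h2
    omega
  · rcases sub_dodecad hc (fun i hi => ((hd i).1 hi).1) with h3 | h3
    · refine ⟨0, fun i hi => ?_⟩
      have h4 : (4 : ℤ) ∣ (v : GolayPt → ℤ) i := by
        by_contra h5
        exact h3 i ((hd i).2 ⟨hi, h5⟩)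
      omega
    · refine ⟨1, fun i hi => ?_⟩
      have h4 := ((hd i).1 (h3 i hi)).2
      have h5 := h1 i
      omega

theorem cong_sign_allOne {c : golayCode} {v : leechLattice} (h : Cong (signCo0 c • v) v) :
    Cong (signCo0 (c + allOne) • v) v := by
  have h1 : signCo0 (c + allOne) • v = -(signCo0 c • v) := by
    rw [add_comm, Co0Mono.signCo0_add, mul_smul, Co1Simple.allOne_smul]
  rw [h1]
  exact (Cong.neg_self _).trans h

/-- **The fixed space of a sign change on a dodecad is totally isotropic.** -/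
theorem bf_fixed_dodecad {c : golayCode} (hc : wt c = 12) {x y : L2} (hx : pr (signCo0 c) • x = x)
    (hy : pr (signCo0 c) • y = y) : bf x y = 0 := by
  obtain ⟨v, rfl⟩ := cl_surjective x
  obtain ⟨w, rfl⟩ := cl_surjective y
  rw [pr_smul_cl, ← cong_iff_cl] at hx hy
  rw [bf_cl_eq_zero]
  have hc' : wt (c + allOne) = 12 := by have := wt_add_allOne c; omega
  obtain ⟨h1, h2, a, ha⟩ := fixed_dodecad hc hx
  obtain ⟨g1, g2, b, hb⟩ := fixed_dodecad hc hy
  obtain ⟨-, h2', a', ha'⟩ := fixed_dodecad hc' (cong_sign_allOne hx)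
  obtain ⟨-, g2', b', hb'⟩ := fixed_dodecad hc' (cong_sign_allOne hy)
  rw [sup_add_allOne] at h2' ha' g2' hb'
  have k1 := sum_mul_four (S := sup c) (by unfold wt at hc; rw [hc]; norm_num) ha hb h2 g2
  have k2 := sum_mul_four (S := (sup c)ᶜ) (by
    rw [← sup_add_allOne]; unfold wt at hc'; rw [hc']; norm_num) ha' hb' h2' g2'
  have e : dotInt (v : GolayPt → ℤ) (w : GolayPt → ℤ) =
      4 * (∑ i ∈ sup c, (v : GolayPt → ℤ) i / 2 * ((w : GolayPt → ℤ) i / 2) +
        ∑ i ∈ (sup c)ᶜ, (v : GolayPt → ℤ) i / 2 * ((w : GolayPt → ℤ) i / 2)) := by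
    rw [Finset.sum_add_sum_compl, Finset.mul_sum]
    refine Finset.sum_congr rfl fun i _ => ?_
    have h3 := Int.mul_ediv_cancel' (h1 i)
    have h4 := Int.mul_ediv_cancel' (g1 i)
    generalize (v : GolayPt → ℤ) i / 2 = s at h3 ⊢
    generalize (w : GolayPt → ℤ) i / 2 = t at h4 ⊢
    rw [← h3, ← h4]; ring
  rw [e]
  omega

/-! ### the quadratic form on the fixed classes of an octad -/

theorem fix_f0 (c : golayCode) : pr (signCo0 c) • f0 = f0 :=
  Cfsg.Agent.MonsterU.CoFrameL2.smul_f0 (Cfsg.Agent.MonsterU.CoFrameL2.E_le_F ⟨c, rfl⟩)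

theorem fix_duad {c : golayCode} {i j : GolayPt} (h : i ∈ sup c ↔ j ∈ sup c) :
    pr (signCo0 c) • cl (duad i j) = cl (duad i j) := by
  rw [pr_smul_cl, ← cong_iff_cl, sign_cong_iff (duad_mem i j), pair_duad]
  rw [mem_sup, mem_sup] at h
  generalize (c : GolayPt → ZMod 2) i = a at h ⊢
  generalize (c : GolayPt → ZMod 2) j = b at h ⊢
  revert a b
  decide

/-- **A class fixed by the sign change on an octad, orthogonal to the fixed classes of `W12`, is singular.** -/
theorem qf_octad {c : golayCode} (hc : wt c = 8) {x : L2} (hx : pr (signCo0 c) • x = x)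
    (hb : ∀ y ∈ W12, pr (signCo0 c) • y = y → bf x y = 0) : qf x = 0 := by
  obtain ⟨v, rfl⟩ := cl_surjective x
  rw [pr_smul_cl, ← cong_iff_cl] at hx
  obtain ⟨h1, h2, -⟩ := fixed_sum (ne_zero_of_wt (by omega)) (ne_allOne_of_wt (by omega)) hx
  have h3 := eight_dvd_sum h1
  have hd : ∀ i j, (i ∈ sup c ↔ j ∈ sup c) → (4 : ℤ) ∣ (v : GolayPt → ℤ) i - (v : GolayPt → ℤ) j := by
    intro i j hij
    have h4 := hb (cl (duad i j)) (cl_mem_W12.2 (duad_mem i j)) (fix_duad hij)
    rw [bf_cl_eq_zero, Cfsg.Agent.MonsterU.AmalGen.dot_duad] at h4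
    omega
  rw [qf_cl_eq_zero]
  have hpar : ∀ i j, (i ∈ sup c ↔ j ∈ sup c) →
      (2 : ℤ) ∣ (v : GolayPt → ℤ) i / 2 - (v : GolayPt → ℤ) j / 2 := by
    intro i j hij
    have h4 := hd i j hij
    have h5 := h1 i
    have h6 := h1 j
    omega
  have e1 := sum_half h1 (sup c)
  have e2 := sum_half h1 (sup c)ᶜ
  have e3 := Finset.sum_add_sum_compl (sup c) (fun i => (v : GolayPt → ℤ) i)
  have k1 := sum_sq_eight (S := sup c) (x := fun i => (v : GolayPt → ℤ) i / 2)
    (by unfold wt at hc; rw [hc])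
    (fun i hi j hj => hpar i j ⟨fun _ => hj, fun _ => hi⟩) (by
      show (4 : ℤ) ∣ ∑ i ∈ sup c, (v : GolayPt → ℤ) i / 2
      omega)
  have k2 := sum_sq_eight (S := (sup c)ᶜ) (x := fun i => (v : GolayPt → ℤ) i / 2)
    (by
      rw [← sup_add_allOne]
      have := wt_add_allOne c
      show 8 ∣ wt (c + allOne)
      omega)
    (fun i hi j hj => hpar i j ⟨fun h => absurd h (Finset.mem_compl.1 hi), fun h => absurd h (Finset.mem_compl.1 hj)⟩)
    (by
      show (4 : ℤ) ∣ ∑ i ∈ (sup c)ᶜ, (v : GolayPt → ℤ) i / 2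
      omega)
  have e : sqNorm (v : GolayPt → ℤ) =
      4 * (∑ i ∈ sup c, ((v : GolayPt → ℤ) i / 2) ^ 2 + ∑ i ∈ (sup c)ᶜ, ((v : GolayPt → ℤ) i / 2) ^ 2) := by
    rw [Finset.sum_add_sum_compl, Finset.mul_sum]
    refine Finset.sum_congr rfl fun i _ => ?_
    have h3 := Int.mul_ediv_cancel' (h1 i)
    generalize (v : GolayPt → ℤ) i / 2 = s at h3 ⊢
    rw [← h3]; ring
  rw [e]
  omega

end Cfsg.Agent.H819.LiftLat
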