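import Cfsg.Agent.H821.Frame
import Cfsg.Agent.H819.LiftDual

/-!
# Lifts of the sign changes (helper819)

`h : Chart Q z eta pi`, `z` conjugate in `G` to another element of `Q`.

* `exists_lift_octad` (M2) : the sign change on an octad has a lift of order two which commutes with every element
  of `Q` whose class is fixed;
* `sq_dodecad` (M2-dod) : a lift `x` of the sign change on a dodecad with `x² ∈ {1, z}` has `x² = 1`.
-/

set_option autoImplicit false

namespace Cfsg.Agent.H819.LiftOct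

open Cfsg
open Cfsg.Agent.SporadicA.Co0Mono (signCo0)
open Cfsg.Agent.CoOneType.CoOneE (pr E)
open Cfsg.Agent.CoOneType.SignFacts (sup wt)
open Cfsg.Agent.MonsterU.Lam2 (L2 cl cl_surjective bf qf bf_add_left bf_add_right bf_comm bf_self add_self
  qf_zero)
open Cfsg.Agent.MonsterU.CoFrameL2 (f0 W1 W12 W23 F)
open Cfsg.Agent.MonsterU.AmalGen (pre mem_pre EE Eab)
open Cfsg.Agent.MonsterU.AmalInf (AA mem_AA)
open Cfsg.Agent.MonsterU.Ch
open Cfsg.Agent.MonsterU
open Cfsg.Agent.H821.Frame (Good)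
open Cfsg.Agent.H819.LiftDual (fix mem_fix)
open Cfsg.Spor (Co1)

variable {G : Type*} [Group G] {Q : Subgroup G} {z : G} {eta : G → L2}
  {pi : Subgroup.centralizer ({z} : Set G) →* Co1}

/-- `z ^ a` -/
def zz (z : G) (a : ZMod 2) : G := if a = 0 then 1 else z

theorem zz_zero : zz z 0 = 1 := if_pos rfl

theorem zz_one : zz z 1 = z := if_neg (by decide)

theorem zmod_cases (a : ZMod 2) : a = 0 ∨ a = 1 := by revert a; decide

section chart

variable (h : Chart Q z eta pi)
include h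

theorem zz_add (a b : ZMod 2) : zz z (a + b) = zz z a * zz z b := by
  rcases zmod_cases a with rfl | rfl <;> rcases zmod_cases b with rfl | rfl
  · rw [add_zero, zz_zero, one_mul]
  · rw [zero_add, zz_zero, one_mul]
  · rw [add_zero, zz_zero, mul_one]
  · rw [show (1 : ZMod 2) + 1 = 0 from rfl, zz_zero, zz_one, h.large.z_sq]

theorem zz_inj {a b : ZMod 2} (hab : zz z a = zz z b) : a = b := by
  have hz := h.large.z_ne
  rcases zmod_cases a with rfl | rfl <;> rcases zmod_cases b with rfl | rfl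
  · rfl
  · rw [zz_zero, zz_one] at hab; exact absurd hab.symm hz
  · rw [zz_zero, zz_one] at hab; exact absurd hab hz
  · rfl

omit h in
theorem zz_comm {x : G} (hx : x * z = z * x) (a : ZMod 2) : x * zz z a = zz z a * x := by
  rcases zmod_cases a with rfl | rfl
  · rw [zz_zero, mul_one, one_mul]
  · rw [zz_one, hx]

variable {r : Subgroup.centralizer ({z} : Set G)}

theorem comm_cases {q : G} (hq : q ∈ Q) (hf : pi r • eta q = eta q) :
    (r : G) * q = q * r ∨ (r : G) * q = q * r * z := by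
  have h1 := h.large.conj_mem r (Subgroup.mem_centralizer_singleton_iff.1 r.2) q hq
  have h2 : eta ((r : G) * q * (r : G)⁻¹) = eta q := by rw [h.eta_conj r q hq, hf]
  have hrz := Subgroup.mem_centralizer_singleton_iff.1 r.2
  rcases (h.eta_eq h1 hq).1 h2 with h3 | h3
  · left
    exact mul_inv_eq_iff_eq_mul.1 h3
  · right
    rw [mul_inv_eq_iff_eq_mul] at h3
    rw [h3, mul_assoc, mul_assoc, hrz]

/-- the commutators of the elements with fixed class with `r` -/
theorem exists_form : ∃ f : fix (pi r) →ₗ[ZMod 2] ZMod 2, ∀ q ∈ Q, ∀ hf : pi r • eta q = eta q,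
    (r : G) * q = q * r * zz z (f ⟨eta q, hf⟩) := by
  classical
  obtain ⟨s, hs⟩ := h.exists_sec
  have hrz := Subgroup.mem_centralizer_singleton_iff.1 r.2
  let fn : L2 → ZMod 2 := fun x => if (r : G) * s x = s x * r then 0 else 1
  have key : ∀ q ∈ Q, pi r • eta q = eta q → (r : G) * q = q * r * zz z (fn (eta q)) := by
    intro q hq hf
    have h1 : (r : G) * s (eta q) = s (eta q) * r * zz z (fn (eta q)) := by
      by_cases h2 : (r : G) * s (eta q) = s (eta q) * r
      · have : fn (eta q) = 0 := if_pos h2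
        rw [this, zz_zero, mul_one, h2]
      · have : fn (eta q) = 1 := if_neg h2
        rw [this, zz_one]
        exact (comm_cases h (s (eta q)).2 (by rw [hs, hf])).resolve_left h2
    generalize zz z (fn (eta q)) = w at h1 ⊢
    rcases (h.eta_eq hq (s (eta q)).2).1 (hs (eta q)).symm with h2 | h2
    · rw [h2, h1]
    · have h3 := h.large.comm_z _ (s (eta q)).2
      rw [h2]
      have h5 : w * z = z * w := by
        have h6 : w = (s (eta q) * (r : G))⁻¹ * ((r : G) * s (eta q)) := by rw [h1]; group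
        have h7 : (s (eta q) * (r : G)) * z = z * (s (eta q) * (r : G)) := by
          rw [mul_assoc, hrz, ← mul_assoc, h3, mul_assoc]
        have h8 : ((r : G) * s (eta q)) * z = z * ((r : G) * s (eta q)) := by
          rw [mul_assoc, h3, ← mul_assoc, hrz, mul_assoc]
        rw [h6]
        calc (s (eta q) * (r : G))⁻¹ * ((r : G) * s (eta q)) * z
            = (s (eta q) * (r : G))⁻¹ * (((r : G) * s (eta q)) * z) := by group
          _ = (s (eta q) * (r : G))⁻¹ * (z * ((r : G) * s (eta q))) := by rw [h8]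
          _ = (s (eta q) * (r : G))⁻¹ * (z * (s (eta q) * (r : G))) *
                ((s (eta q) * (r : G))⁻¹ * ((r : G) * s (eta q))) := by group
          _ = (s (eta q) * (r : G))⁻¹ * ((s (eta q) * (r : G)) * z) *
                ((s (eta q) * (r : G))⁻¹ * ((r : G) * s (eta q))) := by rw [h7]
          _ = z * ((s (eta q) * (r : G))⁻¹ * ((r : G) * s (eta q))) := by group
      calc (r : G) * (s (eta q) * z) = (r : G) * s (eta q) * z := by group
        _ = s (eta q) * r * w * z := by rw [h1]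
        _ = s (eta q) * r * (z * w) := by rw [mul_assoc, h5]
        _ = s (eta q) * (r * z) * w := by group
        _ = s (eta q) * z * r * w := by rw [hrz]; group
  have hadd : ∀ x y, pi r • x = x → pi r • y = y → fn (x + y) = fn x + fn y := by
    intro x y hx hy
    have h1 := key (s x) (s x).2 (by rw [hs, hx])
    have h2 := key (s y) (s y).2 (by rw [hs, hy])
    have hxy : eta ((s x : G) * s y) = x + y := by rw [h.eta_mul _ (s x).2 _ (s y).2, hs, hs]
    have h3 := key (s x * s y) (Q.mul_mem (s x).2 (s y).2) (by rw [hxy, smul_add, hx, hy])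
    rw [hs] at h1 h2
    rw [hxy] at h3
    apply zz_inj h
    rw [zz_add h]
    have h4 : (r : G) * (s x * s y) = s x * s y * r * (zz z (fn x) * zz z (fn y)) := by
      have h5 := zz_comm (h.large.comm_z _ (s y).2) (fn x)
      have h6 := zz_comm (z := z) (x := zz z (fn y)) ?_ (fn x)
      · calc (r : G) * (s x * s y) = (r : G) * s x * s y := by group
          _ = s x * r * (zz z (fn x) * s y) := by rw [h1]; group
          _ = s x * (r * s y) * zz z (fn x) := by rw [← h5]; group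
          _ = s x * s y * r * (zz z (fn y) * zz z (fn x)) := by rw [h2]; group
          _ = s x * s y * r * (zz z (fn x) * zz z (fn y)) := by rw [h6]
      · rcases zmod_cases (fn y) with e | e <;> rw [e]
        · rw [zz_zero, one_mul, mul_one]
        · rw [zz_one]
    exact mul_left_cancel (h3.symm.trans h4)
  refine ⟨AddMonoidHom.toZModLinearMap 2 ⟨⟨fun x => fn x, ?_⟩, fun x y => hadd _ _ x.2 y.2⟩, fun q hq hf => key q hq hf⟩
  have := hadd 0 0 (smul_zero _) (smul_zero _)
  rw [add_zero] at this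
  show fn 0 = 0
  generalize fn 0 = a at this
  revert a
  decide

/-- a commutator with an involution is inverted -/
theorem conj_comm (hr : (r : G) * r = 1) {q : G} (hq : q ∈ Q) (hc : ∃ v, pi r • v + v = eta q) :
    (r : G) * q = q⁻¹ * r := by
  obtain ⟨v, hv⟩ := hc
  obtain ⟨p, hp, rfl⟩ := h.eta_surj v
  have hrz := Subgroup.mem_centralizer_singleton_iff.1 r.2
  have hri : (r : G)⁻¹ = r := inv_eq_of_mul_eq_one_left hr
  obtain ⟨h1, h2⟩ := AmalInf.eta_comm h r hp
  have h3 : eta ((r : G) * p * (r : G)⁻¹ * p⁻¹) = eta q := by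
    rw [h2, ← hv, sub_eq_add_neg, Lam2.neg_eq]
  have h4 : ∀ t : G, (r : G) * (r * t) = t := fun t => by rw [← mul_assoc, hr, one_mul]
  have e0 : (r : G) * ((r : G) * p * (r : G)⁻¹ * p⁻¹) = ((r : G) * p * (r : G)⁻¹ * p⁻¹)⁻¹ * r := by
    have e1 : (r : G) * ((r : G) * p * (r : G)⁻¹ * p⁻¹) = p * (r : G)⁻¹ * p⁻¹ := by
      have : (r : G) * ((r : G) * p * (r : G)⁻¹ * p⁻¹) = (r : G) * (r * (p * (r : G)⁻¹ * p⁻¹)) := by group
      rw [this, h4]
    have e2 : ((r : G) * p * (r : G)⁻¹ * p⁻¹)⁻¹ * r = p * r * p⁻¹ := by group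
    rw [e1, e2, hri]
  rcases (h.eta_eq hq h1).1 h3.symm with h5 | h5
  · rw [h5]; exact e0
  · rw [h5]
    have hz2 := h.large.z_sq
    have hzi : z⁻¹ = z := inv_eq_of_mul_eq_one_left hz2
    rw [mul_inv_rev, hzi, ← mul_assoc, e0]
    have h6 := h.large.comm_z _ (Q.inv_mem h1)
    generalize ((r : G) * p * (r : G)⁻¹ * p⁻¹)⁻¹ = w at h6 ⊢
    rw [mul_assoc, hrz, ← mul_assoc, h6]

/-- the correction of a lift of order two -/
theorem exists_correct (hr : (r : G) * r = 1) (hq : ∀ v, qf (pi r • v + v) = 0)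
    (hW : ∀ q ∈ EE h, pi r • eta q = eta q → (r : G) * q = q * r)
    (hs : ∀ x, pi r • x = x → (∀ y ∈ W12, pi r • y = y → bf x y = 0) → qf x = 0) :
    ∃ r' : Subgroup.centralizer ({z} : Set G), pi r' = pi r ∧ (r' : G) * r' = 1 ∧
      ∀ q ∈ Q, pi r • eta q = eta q → (r' : G) * q = q * r' := by
  have hg : pi r * pi r = 1 := by
    rw [← map_mul]
    have : r * r = 1 := Subtype.ext hr
    rw [this, map_one]
  obtain ⟨f, hf⟩ := exists_form h (r := r)
  obtain ⟨v, hv⟩ := LiftDual.exists_dual _ f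
  -- `v` is fixed
  have hvf : pi r • v = v := by
    refine LiftDual.mem_fix_of_bf hg fun w => ?_
    obtain ⟨q, hqQ, hqw⟩ := h.eta_surj (pi r • w + w)
    have h1 : pi r • eta q = eta q := by
      rw [hqw, smul_add, LiftDual.smul_smul_self hg, add_comm]
    have h2 := hf q hqQ h1
    have h3 := conj_comm h hr hqQ ⟨w, hqw.symm⟩
    have h4 : q⁻¹ = q := by
      apply inv_eq_of_mul_eq_one_left
      rw [h.sq_one hqQ, hqw]
      exact hq w
    rw [h4] at h3
    have h5 : f ⟨eta q, h1⟩ = 0 := by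
      apply zz_inj h
      rw [zz_zero]
      have : q * (r : G) * zz z (f ⟨eta q, h1⟩) = q * r * 1 := by rw [← h2, h3, mul_one]
      exact mul_left_cancel this
    rw [← hqw]
    exact (hv ⟨eta q, h1⟩).trans h5
  -- orthogonal to the fixed classes of `W12`
  have hvq : qf v = 0 := by
    refine hs v hvf fun y hy hyf => ?_
    obtain ⟨q, hqQ, rfl⟩ := h.eta_surj y
    have h1 := hW q ⟨hqQ, hy⟩ hyf
    have h2 := hf q hqQ hyf
    have h5 : f ⟨eta q, hyf⟩ = 0 := by
      apply zz_inj h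
      rw [zz_zero]
      have : q * (r : G) * zz z (f ⟨eta q, hyf⟩) = q * r * 1 := by rw [← h2, h1, mul_one]
      exact mul_left_cancel this
    exact (hv ⟨eta q, hyf⟩).trans h5
  obtain ⟨q₀, hq₀, rfl⟩ := h.eta_surj v
  have hrz := Subgroup.mem_centralizer_singleton_iff.1 r.2
  have hq₀z := h.large.comm_z _ hq₀
  have hq₀c : q₀ ∈ Subgroup.centralizer ({z} : Set G) := Subgroup.mem_centralizer_singleton_iff.2 hq₀z
  have hsq : q₀ * q₀ = 1 := (h.sq_one hq₀).2 hvq
  -- `r` commutes with `q₀`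
  have hrq : (r : G) * q₀ = q₀ * r := by
    have h2 := hf q₀ hq₀ hvf
    have h3 : f ⟨eta q₀, hvf⟩ = 0 := by
      rw [← hv ⟨eta q₀, hvf⟩]
      exact bf_self _
    rw [h2, h3, zz_zero, mul_one]
  refine ⟨r * ⟨q₀, hq₀c⟩, ?_, ?_, ?_⟩
  · rw [map_mul, (h.pi_eq_one ⟨q₀, hq₀c⟩).2 hq₀, mul_one]
  · show (r : G) * q₀ * (r * q₀) = 1
    calc (r : G) * q₀ * (r * q₀) = (r : G) * (q₀ * r) * q₀ := by group
      _ = (r : G) * (r * q₀) * q₀ := by rw [hrq]
      _ = (r * r) * (q₀ * q₀) := by group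
      _ = 1 := by rw [hr, hsq, one_mul]
  · intro q hqQ hqf
    show (r : G) * q₀ * q = q * (r * q₀)
    have h2 := hf q hqQ hqf
    have h3 : q₀ * q = q * q₀ * zz z (f ⟨eta q, hqf⟩) := by
      rw [← hv ⟨eta q, hqf⟩]
      rcases zmod_cases (bf (eta q₀) (eta q)) with e | e
      · rw [(h.comm_iff hq₀ hqQ).2 e]
        show q * q₀ = q * q₀ * zz z (bf (eta q₀) (eta q))
        rw [e, zz_zero, mul_one]
      · rw [(h.comm_z_iff hq₀ hqQ).2 e]
        show q * q₀ * z = q * q₀ * zz z (bf (eta q₀) (eta q))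
        rw [e, zz_one]
    have h4 := zz_add h (f ⟨eta q, hqf⟩) (f ⟨eta q, hqf⟩)
    have h5 : f ⟨eta q, hqf⟩ + f ⟨eta q, hqf⟩ = 0 := by
      generalize f ⟨eta q, hqf⟩ = a
      revert a; decide
    rw [h5, zz_zero] at h4
    have h6 := zz_comm hq₀z (f ⟨eta q, hqf⟩)
    generalize zz z (f ⟨eta q, hqf⟩) = w at h2 h3 h4 h6
    calc (r : G) * q₀ * q = (r : G) * (q₀ * q) := by group
      _ = (r : G) * q * q₀ * w := by rw [h3]; group
      _ = q * r * (w * q₀) * w := by rw [h2]; group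
      _ = q * r * (q₀ * w) * w := by rw [h6]
      _ = q * (r * q₀) * (w * w) := by group
      _ = q * (r * q₀) := by rw [← h4, mul_one]

end chart

/-! ### the lift of order two in `Q ^ τ` -/

section good

variable {h : Chart Q z eta pi} {s τ : G} (gd : Good h s τ)
include gd

theorem s_ne_one : s ≠ 1 := by
  intro e
  have := gd.eq
  rw [e, h.eta_one] at this
  exact CoFrameL2.f0_ne this.symm

theorem s_ne_z : s ≠ z := by
  intro e
  have := gd.eq
  rw [e, h.eta_z] at this
  exact CoFrameL2.f0_ne this.symm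

/-- **Every sign change lifts to an element of order two of `Q ^ τ`.** -/
theorem exists_inv_lift {g : Co1} (hg : g ∈ E) (hne : g ≠ 1) :
    ∃ r : Subgroup.centralizer ({z} : Set G), pi r = g ∧ (r : G) ∈ AA Q τ ∧ (r : G) * r = 1 := by
  obtain ⟨a, ha, hc, hac⟩ := AmalInf.exists_CA_of_E h gd.mem gd.eq gd.τz gd.τs hg
  have haA : a ∈ AA Q τ := ha.1
  have haQ := mem_AA.1 haA
  have hsq : a * a = 1 ∨ a * a = s := by
    rcases h.large.sq _ haQ with h1 | h1
    · left
      have : a * a = τ * (τ⁻¹ * a * τ * (τ⁻¹ * a * τ)) * τ⁻¹ := by group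
      rw [this, h1]; group
    · right
      have : a * a = τ * (τ⁻¹ * a * τ * (τ⁻¹ * a * τ)) * τ⁻¹ := by group
      rw [this, h1, gd.τz]
  rcases hsq with h1 | h1
  · exact ⟨⟨a, hc⟩, hac, haA, h1⟩
  obtain ⟨d, hd, hda⟩ : ∃ d ∈ EE h, a * d ≠ d * a := by
    by_contra hn
    push Not at hn
    apply hne
    have h2 : τ⁻¹ * a * τ ∈ EE h := by
      refine AmalGen.Eself h _ haQ fun e he => ?_
      have h3 := hn _ (AmalInf.Eτ h gd.mem gd.eq gd.τz gd.τs e he)
      calc τ⁻¹ * a * τ * e = τ⁻¹ * (a * (τ * e * τ⁻¹)) * τ := by group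
        _ = τ⁻¹ * (τ * e * τ⁻¹ * a) * τ := by rw [h3]
        _ = e * (τ⁻¹ * a * τ) := by group
    have h3 := AmalInf.Eτ h gd.mem gd.eq gd.τz gd.τs _ h2
    have h4 : τ * (τ⁻¹ * a * τ) * τ⁻¹ = a := by group
    rw [h4] at h3
    rw [← hac]
    exact (h.pi_eq_one ⟨a, hc⟩).2 h3.1
  have hdA : d ∈ AA Q τ := ((AmalInf.mem_EE_iff h gd.mem gd.eq gd.τz gd.τs).1 hd).2
  have h2 : a * d * a⁻¹ * d⁻¹ = s := by
    rcases AmalInf.comm_AA' h gd.mem gd.eq gd.τz gd.τs haA hdA with h3 | h3
    · exfalso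
      apply hda
      calc a * d = (a * d * a⁻¹ * d⁻¹) * (d * a) := by group
        _ = d * a := by rw [h3, one_mul]
    · exact h3
  have hdz := h.large.comm_z _ hd.1
  have hdc : d ∈ Subgroup.centralizer ({z} : Set G) := Subgroup.mem_centralizer_singleton_iff.2 hdz
  refine ⟨⟨a, hc⟩ * ⟨d, hdc⟩, ?_, ?_, ?_⟩
  · rw [map_mul, (h.pi_eq_one ⟨d, hdc⟩).2 hd.1, mul_one, hac]
  · exact Subgroup.mul_mem _ haA hdA
  · show a * d * (a * d) = 1
    have h3 := H821.Frame.EE_sq gd hd
    have h4 := AmalInf.comm_AA h gd.mem gd.eq gd.τz gd.τs hdA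
    have h5 := AmalInf.y_sq h gd.mem gd.eq gd.τz gd.τs
    calc a * d * (a * d) = (a * d * a⁻¹ * d⁻¹) * (d * (a * a) * d) := by group
      _ = s * (d * s * d) := by rw [h2, h1]
      _ = s * (s * d * d) := by rw [h4]
      _ = (s * s) * (d * d) := by group
      _ = 1 := by rw [h5, h3, one_mul]

theorem comm_EE {r : Subgroup.centralizer ({z} : Set G)} (hrA : (r : G) ∈ AA Q τ) :
    ∀ q ∈ EE h, pi r • eta q = eta q → (r : G) * q = q * r := by
  intro q hq hf
  have hqA : q ∈ AA Q τ := ((AmalInf.mem_EE_iff h gd.mem gd.eq gd.τz gd.τs).1 hq).2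
  rcases comm_cases h hq.1 hf with h1 | h1
  · exact h1
  rcases AmalInf.comm_AA' h gd.mem gd.eq gd.τz gd.τs hrA hqA with h2 | h2
  · calc (r : G) * q = ((r : G) * q * (r : G)⁻¹ * q⁻¹) * (q * r) := by group
      _ = q * r := by rw [h2, one_mul]
  · exfalso
    apply s_ne_z gd
    have hrz := Subgroup.mem_centralizer_singleton_iff.1 r.2
    have hqz := h.large.comm_z _ hq.1
    rw [← h2, h1]
    calc q * (r : G) * z * (r : G)⁻¹ * q⁻¹ = q * ((r : G) * z) * (r : G)⁻¹ * q⁻¹ := by group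
      _ = q * z * q⁻¹ := by rw [hrz]; group
      _ = z := by rw [hqz]; group

end good

/-! ### the statements -/

theorem sign_ne_one {c : golayCode} (h0 : wt c ≠ 0) (h24 : wt c ≠ 24) : pr (signCo0 c) ≠ 1 := by
  intro e
  have h1 : pr (signCo0 c) = pr (signCo0 0) := by
    rw [e, SporadicA.Co0Mono.signCo0_zero, map_one]
  rw [CoOneType.CoOneE.pr_sign_eq_iff] at h1
  rcases h1 with h1 | h1
  · exact LiftLat.ne_zero_of_wt h0 h1.symm
  · apply LiftLat.ne_allOne_of_wt h24
    have h2 : c + SporadicA.Co1Simple.allOne + SporadicA.Co1Simple.allOne = SporadicA.Co1Simple.allOne := by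
      rw [← h1, zero_add]
    rwa [add_assoc, CoOneType.CoOneE.allOne_add_self, add_zero] at h2

/-- M2 for a good chart -/
theorem lift_octad_good {h : Chart Q z eta pi} {s τ : G} (gd : Good h s τ) {c : golayCode} (hc : wt c = 8) :
    ∃ r : Subgroup.centralizer ({z} : Set G), pi r = pr (signCo0 c) ∧ (r : G) * r = 1 ∧
      ∀ q ∈ Q, pr (signCo0 c) • eta q = eta q → (r : G) * q = q * r := by
  obtain ⟨r, hrc, hrA, hr⟩ := exists_inv_lift gd (g := pr (signCo0 c)) ⟨c, rfl⟩
    (sign_ne_one (by omega) (by omega))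
  obtain ⟨r', h1, h2, h3⟩ := exists_correct h hr
    (by rw [hrc]; exact LiftLat.qf_comm_octad hc)
    (comm_EE gd hrA)
    (by rw [hrc]; exact fun x hx hb => LiftLat.qf_octad hc hx hb)
  rw [hrc] at h1 h3
  exact ⟨r', h1, h2, h3⟩

/-- M2-dod for a good chart -/
theorem sq_dodecad_good {h : Chart Q z eta pi} {s τ : G} (gd : Good h s τ) {c : golayCode} (hc : wt c = 12)
    {x : Subgroup.centralizer ({z} : Set G)} (hx : pi x = pr (signCo0 c)) (hxx : (x : G) * x = 1 ∨ (x : G) * x = z) :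
    (x : G) * x = 1 := by
  obtain ⟨r, hrc, -, hr⟩ := exists_inv_lift gd (g := pr (signCo0 c)) ⟨c, rfl⟩
    (sign_ne_one (by omega) (by omega))
  have hg : pi r * pi r = 1 := by
    rw [← map_mul]
    have : r * r = 1 := Subtype.ext hr
    rw [this, map_one]
  have hri : (r : G)⁻¹ = r := inv_eq_of_mul_eq_one_left hr
  have hrz := Subgroup.mem_centralizer_singleton_iff.1 r.2
  -- `x = r q`
  obtain ⟨q, hq, hxq⟩ : ∃ q ∈ Q, (x : G) = r * q := by
    refine ⟨(r : G)⁻¹ * x, ?_, by group⟩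
    exact h.pi_eq.1 (hrc.trans hx.symm)
  have h1 := h.large.conj_mem r hrz q hq
  rw [hri] at h1
  have h2 : (x : G) * x = (r : G) * q * r * q := by rw [hxq]; group
  have h3 : eta ((r : G) * q * r * q) = pi r • eta q + eta q := by
    rw [h.eta_mul _ h1 _ hq]
    congr 1
    have := h.eta_conj r q hq
    rwa [hri] at this
  have h4 : pi r • eta q = eta q := by
    apply Lam2.eq_of_add_eq_zero
    rw [← h3, ← h2]
    rcases hxx with h5 | h5
    · rw [h5, h.eta_one]
    · rw [h5, h.eta_z]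
  have h5 : ∃ v, pi r • v + v = eta q := by
    refine LiftDual.mem_com_of_bf hg fun y hy => ?_
    rw [hrc] at h4 hy
    exact LiftLat.bf_fixed_dodecad hc h4 hy
  have h6 := conj_comm h hr hq h5
  rw [h2, h6]
  calc q⁻¹ * (r : G) * r * q = q⁻¹ * ((r : G) * r) * q := by group
    _ = 1 := by rw [hr]; group

variable [Finite G] (h : Chart Q z eta pi) (hf : ∃ g, g * z * g⁻¹ ∈ Q ∧ g * z * g⁻¹ ≠ z)
include h hf

theorem exists_conj : ∃ (σ : Co1) (k : Subgroup.centralizer ({z} : Set G)) (s τ : G),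
    pi k = σ ∧ Good (h.smul σ) s τ := by
  obtain ⟨g, hg, hne⟩ := hf
  obtain ⟨σ, τ, gd⟩ := H821.Frame.exists_good h hg hne ⟨g, rfl⟩
  obtain ⟨k, hk⟩ := h.pi_surj σ
  exact ⟨σ, k, _, τ, hk, gd⟩

/-- **M2 : a sign change on an octad lifts to an element of order two commuting with every element of `Q` with a
fixed class.** -/
theorem exists_lift_octad {c : golayCode} (hc : wt c = 8) :
    ∃ r : Subgroup.centralizer ({z} : Set G), pi r = pr (signCo0 c) ∧ (r : G) * r = 1 ∧
      ∀ q ∈ Q, pr (signCo0 c) • eta q = eta q → (r : G) * q = q * r := by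
  obtain ⟨σ, k, s, τ, hk, gd⟩ := exists_conj h hf
  obtain ⟨r, h1, h2, h3⟩ := lift_octad_good gd hc
  have h1' : σ * pi r * σ⁻¹ = pr (signCo0 c) := h1
  refine ⟨k * r * k⁻¹, ?_, ?_, ?_⟩
  · rw [map_mul, map_mul, map_inv, hk, h1']
  · show (k : G) * r * (k : G)⁻¹ * (k * r * (k : G)⁻¹) = 1
    calc (k : G) * r * (k : G)⁻¹ * (k * r * (k : G)⁻¹) = (k : G) * (r * r) * (k : G)⁻¹ := by group
      _ = 1 := by rw [h2]; group
  · intro q hq hqf
    show (k : G) * r * (k : G)⁻¹ * q = q * (k * r * (k : G)⁻¹)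
    have hkz := Subgroup.mem_centralizer_singleton_iff.1 (k⁻¹).2
    have hq' := h.large.conj_mem _ hkz q hq
    have h4 := h3 _ hq' (by
      show pr (signCo0 c) • σ • eta ((k⁻¹ : Subgroup.centralizer ({z} : Set G)) * q *
        ((k⁻¹ : Subgroup.centralizer ({z} : Set G)) : G)⁻¹) = σ • eta _
      rw [h.eta_conj k⁻¹ q hq, map_inv, hk, smul_inv_smul, hqf])
    have h5 : (r : G) * ((k : G)⁻¹ * q * k) = (k : G)⁻¹ * q * k * r := by
      have e : ((k⁻¹ : Subgroup.centralizer ({z} : Set G)) : G) = (k : G)⁻¹ := rfl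
      rw [e, inv_inv] at h4
      exact h4
    calc (k : G) * r * (k : G)⁻¹ * q = (k : G) * (r * ((k : G)⁻¹ * q * k)) * (k : G)⁻¹ := by group
      _ = (k : G) * ((k : G)⁻¹ * q * k * r) * (k : G)⁻¹ := by rw [h5]
      _ = q * (k * r * (k : G)⁻¹) := by group

/-- **M2-dod : a lift `x` of a sign change on a dodecad with `x² ∈ {1, z}` has `x² = 1`.** -/
theorem sq_dodecad {c : golayCode} (hc : wt c = 12) {x : Subgroup.centralizer ({z} : Set G)}
    (hx : pi x = pr (signCo0 c)) (hxx : (x : G) * x = 1 ∨ (x : G) * x = z) : (x : G) * x = 1 := by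
  obtain ⟨σ, k, s, τ, hk, gd⟩ := exists_conj h hf
  have hkz := Subgroup.mem_centralizer_singleton_iff.1 k.2
  have e : ((k⁻¹ * x * k : Subgroup.centralizer ({z} : Set G)) : G) *
      ((k⁻¹ * x * k : Subgroup.centralizer ({z} : Set G)) : G) = (k : G)⁻¹ * ((x : G) * x) * k := by
    show (k : G)⁻¹ * x * k * ((k : G)⁻¹ * x * k) = _
    group
  have h1 := sq_dodecad_good gd hc (x := k⁻¹ * x * k) (by
      show σ * pi (k⁻¹ * x * k) * σ⁻¹ = _
      rw [map_mul, map_mul, map_inv, hk, hx]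
      group) (by
      rw [e]
      rcases hxx with h2 | h2
      · left; rw [h2]; group
      · right
        rw [h2]
        calc (k : G)⁻¹ * z * k = (k : G)⁻¹ * (z * k) := by group
          _ = (k : G)⁻¹ * (k * z) := by rw [hkz]
          _ = z := by group)
  rw [e] at h1
  calc (x : G) * x = (k : G) * ((k : G)⁻¹ * ((x : G) * x) * k) * (k : G)⁻¹ := by group
    _ = 1 := by rw [h1]; group

end Cfsg.Agent.H819.LiftOct
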