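import Cfsg.Agent.H819.CoverCL
import Cfsg.Agent.H819.TwoACent
import Cfsg.Agent.H849.FourModel
import Cfsg.Agent.MonsterU.AmalElts

/-!
# Complemented subgroup lattices: the Baby Monster and the Monster (helper819, S5900)

`h0 : Kn` is the classification (`fun _ _ _ _ => Cfsg.Agent.S0000.result`).
-/

set_option autoImplicit false

namespace Cfsg.Agent.H819.OverBM

open Subgroup Cfsg Cfsg.Agent.H939.KLat Cfsg.Agent.H819.OverG Cfsg.Agent.H680.Over Cfsg.Agent.H819.OverCL
open Cfsg.Agent.H819.TwoACent (baby simple_B nonab involutions)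
open Cfsg.Agent.H819.CoverCL Cfsg.Agent.H849.FourGroup

theorem onlyM (h0 : Kn) : Only (2 * 4154781481226426191177580544000000) 808017424794512875886459904961710757005754368000000000 :=
  only_of h0 [(2,46),(3,20),(5,9),(7,6),(11,2),(13,3),(17,1),(19,1),(23,1),(29,1),(31,1),(41,1),(47,1),(59,1),(71,1)]
    (by decide +kernel) (by decide +kernel)

theorem onlyB (h0 : Kn) : Only (2 * 76532479683774853939200) 4154781481226426191177580544000000 :=
  only_of h0 [(2,41),(3,13),(5,6),(7,2),(11,1),(13,1),(17,1),(19,1),(23,1),(31,1),(47,1)] (by decide +kernel)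
    (by decide +kernel)

theorem arM : Ar 47 194478922284018372000 := by
  refine ar_of (by norm_num) (l := [(2,5),(3,7),(5,3),(7,4),(11,1),(13,2),(29,1),(41,1),(59,1),(71,1)]) ?_ ?_
  all_goals decide +kernel

theorem arB : Ar 19 54287820000 := by
  refine ar_of (by norm_num) (l := [(2,5),(3,4),(5,4),(23,1),(31,1),(47,1)]) ?_ ?_
  all_goals decide +kernel

theorem card_M : Nat.card Spor.Monster = 808017424794512875886459904961710757005754368000000000 :=
  Cfsg.Agent.H848.MonsterSetup.card

theorem card_B : Nat.card Spor.BabyMonster = 4154781481226426191177580544000000 := baby.2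

/-- **The Monster.** -/
theorem cl_M (h0 : Kn) {G : Type} [Group G] [Finite G] [IsSimpleGroup G] (h : Spor.IsoM G) (hb : Below (Nat.card G)) : CL G := by
  obtain ⟨e⟩ := h
  have hfin : Finite Spor.Monster := Cfsg.Agent.H848.MonsterSetup.finite
  have hsim : IsSimpleGroup Spor.Monster := Cfsg.Agent.H848.MonsterSetup.simple
  have hfB : Finite Spor.BabyMonster := Nat.finite_of_card_ne_zero (by rw [card_B]; norm_num)
  have hb' : Below (Nat.card Spor.Monster) := by
    rwa [← Nat.card_congr e.toEquiv]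
  refine of_equiv e.symm ?_
  obtain ⟨y, hy, hcov⟩ := Cfsg.Agent.S5534.result
  refine cl_of_cent hy nonab hcov (hb'.apply (by rw [card_B, card_M]; norm_num)) (p := 47) (m := 194478922284018372000)
    (by norm_num) (by norm_num) card_B card_M (by norm_num) (by norm_num) arM (onlyM h0)

/-- **The Baby Monster.** -/
theorem cl_B (h0 : Kn) {G : Type} [Group G] [Finite G] [IsSimpleGroup G] (h : Spor.IsoB G) (hb : Below (Nat.card G)) : CL G := by
  obtain ⟨e⟩ := h
  have hfin : Finite Spor.Monster := Cfsg.Agent.H848.MonsterSetup.finite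
  have hsim : IsSimpleGroup Spor.Monster := Cfsg.Agent.H848.MonsterSetup.simple
  have hfB : Finite Spor.BabyMonster := Nat.finite_of_card_ne_zero (by rw [card_B]; norm_num)
  have hb' : Below (Nat.card Spor.BabyMonster) := by
    rwa [← Nat.card_congr e.toEquiv]
  refine of_equiv e.symm ?_
  have hp : Fact (Nat.Prime 2) := ⟨Nat.prime_two⟩
  let hfin : Fintype (GaloisField 2 2) := Fintype.ofFinite _
  have hF : Fintype.card (GaloisField 2 2) = 4 := by
    rw [← Nat.card_eq_fintype_card, GaloisField.card 2 2 (by norm_num)]; norm_num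
  obtain ⟨t, a, u, v, π, D⟩ := Cfsg.Agent.H849.FourModel.exists_data Cfsg.Agent.MonsterN.LitFin.all
    Cfsg.Agent.MonsterX.KDone.lnk Cfsg.Agent.MonsterX.KDone.lft
    (Cfsg.Agent.MonsterU.TauInst.tauHyp (Cfsg.Agent.MonsterU.Final.cent
      Cfsg.Agent.MonsterX.InstanceFinal.mOrbit Cfsg.Agent.MonsterX.Instance.mTrans))
    (Cfsg.Agent.MonsterP.NodesGrp.prel Cfsg.Agent.MonsterN.LitFin.H)
    (Cfsg.Agent.MonsterP.NodesNe.ne Cfsg.Agent.MonsterN.LitFin.H)
    Cfsg.Agent.MonsterN.LitFin.conj_ten (GaloisField 2 2) hF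
  obtain ⟨e'⟩ := Cfsg.Agent.MonsterP.Equiv.equiv
  obtain ⟨π', D'⟩ := D.exists_map e'.symm
  have hsE : IsSimpleGroup (Cfsg.Lie.twistedE6 (GaloisField 2 2) 2) :=
    Cfsg.Agent.MonsterN.EInst.isSimple (GaloisField 2 2) hF
  have hE : Nat.card (Cfsg.Lie.twistedE6 (GaloisField 2 2) 2) = 76532479683774853939200 :=
    Cfsg.Agent.BM.HBFinal.card_E (GaloisField 2 2) hF
  have hfE : Finite (Cfsg.Lie.twistedE6 (GaloisField 2 2) 2) := Nat.finite_of_card_ne_zero (by rw [hE]; norm_num)
  have hnaE : ∃ a b : Cfsg.Lie.twistedE6 (GaloisField 2 2) 2, a * b ≠ b * a :=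
    CoverCL.nonab_of (by rw [hE]; norm_num) (by rw [hE]; norm_num) (by rw [hE]; norm_num)
  have ht : orderOf (e'.symm t) = 2 := orderOf_eq_prime (by rw [pow_two, D'.tt]) D'.t1
  obtain ⟨Q, z, eta, pi, hch⟩ := Cfsg.Agent.H848.MonsterSetup.exists_chart
  have hzt : ¬ IsConj z (e'.symm t) := by
    intro hc
    obtain ⟨g, hg⟩ := isConj_iff.1 hc
    have h1 := Cfsg.Agent.MonsterU.AmalElts.card_centralizer hch
    rw [Nat.card_congr (TwoACent.centEquiv hg).toEquiv] at h1
    have h2 : 19 ∣ Nat.card ↥(centralizer ({e'.symm t, e'.symm a} : Set Spor.Monster)) := by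
      have h3 := π'.ker.card_mul_index
      rw [Subgroup.index_ker, MonoidHom.range_eq_top.2 D'.surj, Subgroup.card_top, hE] at h3
      rw [← h3]
      exact Dvd.dvd.mul_left (by norm_num) _
    have h3 : Nat.card ↥(centralizer ({e'.symm t, e'.symm a} : Set Spor.Monster)) ∣
        Nat.card ↥(centralizer ({e'.symm t} : Set Spor.Monster)) :=
      card_dvd_of_le (centralizer_le (by simp))
    have h4 := h2.trans h3
    rw [h1] at h4
    norm_num at h4
  obtain ⟨hcov, -⟩ := involutions hch ht hzt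
  refine cl_of_four hnaE D' ht hcov (hb'.apply (by rw [hE, card_B]; norm_num)) (p := 19) (m := 54287820000)
    (by norm_num) (by norm_num) hE card_B (by norm_num) (by norm_num) arB (onlyB h0)

end Cfsg.Agent.H819.OverBM
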