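import Cfsg.Agent.H819.Base
import Cfsg.Agent.H819.Setting
import Cfsg.Agent.LThreeMB.Quo
import Cfsg.Agent.MonsterU.AmalSideOf

/-!
# `C_G(t) / ⟨t⟩` is of Baby Monster type, `t ∈ Q` of type 2 (helper819)

`G` finite with a chart `P = 2^{1+24}`, `C(z)/P = Co1`, `z` conjugate to an element `≠ z` of `P`.
-/

set_option autoImplicit false

namespace Cfsg.Agent.H819.TypeTwo

open Cfsg Cfsg.Spor Cfsg.Agent.MonsterU Cfsg.Agent.MonsterU.Lam2 Cfsg.Agent.MonsterU.Ch
open Cfsg.Agent.Co2Type.Quad Cfsg.Agent.LargeExtra.Base Cfsg.Agent.H819.Base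
open Cfsg.Agent.LThreeMB (XX Zx self Zx_normal mk exists_mk mk_eq_one mk_mul mk_one mk_inv mk_congr mk_eq_mk conj_comm
  exists_fac PB mem_PB PP mem_PP)
open Subgroup (centralizer zpowers mem_centralizer_singleton_iff)

/-! ### Linear algebra in `Λ / 2Λ` -/

theorem zmod_ne {a : ZMod 2} (h : a ≠ 0) : a = 1 := by revert a; decide

/-- the radical of a hyperplane -/
theorem rad {a b : L2} (h : ∀ v, bf b v = 0 → bf a v = 0) : a = 0 ∨ a = b := by
  by_cases ha : ∀ v, bf a v = 0
  · exact Or.inl (bf_nondeg ha)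
  · right
    push Not at ha
    obtain ⟨v, hv⟩ := ha
    have hv1 := zmod_ne hv
    have hb1 : bf b v = 1 := zmod_ne fun h0 => hv (h v h0)
    apply Lam2.eq_of_add_eq_zero
    apply bf_nondeg
    intro u
    rw [bf_add_left]
    by_cases hu : bf b u = 0
    · rw [h u hu, hu, add_zero]
    · have hu1 := zmod_ne hu
      have h1 : bf b (u + v) = 0 := by rw [bf_add_right, hu1, hb1]; rfl
      have h2 := h _ h1
      rw [bf_add_right, hv1] at h2
      have h3 : bf a u = 1 := by
        generalize bf a u = c at h2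
        revert c; decide
      rw [h3, hu1]; rfl

/-- An element of the stabiliser of a class of type 2 acting trivially on `x^⊥ / x` is trivial. -/
theorem stab_trivial {x : L2} (hx : IsType 2 x) {s : Co1} (hs : s • x = x)
    (hw : ∀ v, bf x v = 0 → s • v = v ∨ s • v = v + x) : s = 1 := by
  have hinv : ∀ (s : Co1), s • x = x → s⁻¹ • x = x := fun s hs => by rw [inv_smul_eq_iff, hs]
  have hbs : ∀ (s : Co1), s • x = x → ∀ v, bf x (s • v) = bf x v := fun s hs v => by
    conv_lhs => rw [← hs]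
    exact bf_smul1 s x v
  let N : Subgroup Co1 :=
    { carrier := {s | s • x = x ∧ ∀ v, bf x v = 0 → s • v = v ∨ s • v = v + x}
      one_mem' := ⟨one_smul _ _, fun v _ => Or.inl (one_smul _ _)⟩
      mul_mem' := by
        rintro a b ⟨ha, ha'⟩ ⟨hb, hb'⟩
        refine ⟨by rw [mul_smul, hb, ha], fun v hv => ?_⟩
        rw [mul_smul]
        rcases hb' v hv with h1 | h1
        · rw [h1]; exact ha' v hv
        · rw [h1, smul_add, ha]
          rcases ha' v hv with h2 | h2
          · rw [h2]; exact Or.inr rfl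
          · left; rw [h2, add_assoc, Lam2.add_self, add_zero]
      inv_mem' := by
        rintro a ⟨ha, ha'⟩
        refine ⟨hinv a ha, fun v hv => ?_⟩
        rcases ha' v hv with h1 | h1
        · left; rw [inv_smul_eq_iff, h1]
        · right
          rw [inv_smul_eq_iff, smul_add, h1, ha, add_assoc, Lam2.add_self, add_zero] }
  have hN : N = ⊥ := by
    refine Fused.eq_bot_of_type_two hx N (fun s hs => hs.1) ?_ ?_
    · rintro s hs n ⟨hn, hn'⟩
      refine ⟨by rw [mul_smul, mul_smul, hinv s hs, hn, hs], fun v hv => ?_⟩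
      have h1 : bf x (s⁻¹ • v) = 0 := by rw [hbs _ (hinv s hs), hv]
      rw [mul_smul, mul_smul]
      rcases hn' _ h1 with h2 | h2
      · left; rw [h2, smul_inv_smul]
      · right; rw [h2, smul_add, smul_inv_smul, hs]
    · rintro ⟨n, hn, hn'⟩
      refine ⟨2, Subtype.ext ?_⟩
      show n ^ 2 ^ 2 = 1
      have hsq : ∀ v, n • n • v = v ∨ n • n • v = v + x := by
        intro v
        have hd : bf x (n • v + v) = 0 := by
          rw [bf_add_right, hbs n hn]
          generalize bf x v = c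
          revert c; decide
        have h3 : n • v = v + (n • v + v) := by
          rw [add_comm (n • v) v, ← add_assoc, Lam2.add_self, zero_add]
        have h4 : n • n • v = n • v + n • (n • v + v) := by
          conv_lhs => rw [h3, smul_add]
        rcases hn' _ hd with h5 | h5
        · left
          rw [h4, h5, ← add_assoc, Lam2.add_self, zero_add]
        · right
          rw [h4, h5, ← add_assoc, ← add_assoc, Lam2.add_self, zero_add]
      apply eq_of_smul
      intro v
      have h6 : n ^ 2 ^ 2 • v = n • n • n • n • v := by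
        rw [show 2 ^ 2 = 4 from rfl, pow_succ, pow_succ, pow_succ, pow_one, mul_smul, mul_smul, mul_smul]
      rw [h6, one_smul]
      rcases hsq v with h7 | h7
      · rw [h7, h7]
      · rw [h7, smul_add, smul_add, hn, hn, h7, add_assoc, Lam2.add_self, add_zero]
  have hsN : s ∈ N := ⟨hs, hw⟩
  rw [hN, Subgroup.mem_bot] at hsN
  exact hsN

section chart

variable {G : Type*} [Group G] {P : Subgroup G} {z t : G} {eta : G → L2}
  {pi : Subgroup.centralizer ({z} : Set G) →* Co1}

/-! ### The element `t` -/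

theorem t_sq (h : Chart P z eta pi) (ht : t ∈ P) (h2 : IsType 2 (eta t)) : t * t = 1 :=
  (h.sq_one ht).2 (by rw [qf_of_type h2]; rfl)

theorem t_ne_one (h : Chart P z eta pi) (h2 : IsType 2 (eta t)) : t ≠ 1 := by
  rintro rfl
  exact ne_zero_of_type (Or.inl rfl) h2 h.eta_one

theorem t_ne_z (h : Chart P z eta pi) (h2 : IsType 2 (eta t)) : t ≠ z := by
  rintro rfl
  exact ne_zero_of_type (Or.inl rfl) h2 h.eta_z

theorem zt (h : Chart P z eta pi) (ht : t ∈ P) : z * t = t * z := (h.large.comm_z t ht).symm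

theorem tpow (htt : t * t = 1) (i : ℤ) : t ^ i = 1 ∨ t ^ i = t := by
  obtain ⟨k, rfl | rfl⟩ := Int.even_or_odd' i
  · left
    rw [zpow_mul, zpow_two, htt, one_zpow]
  · right
    rw [zpow_add, zpow_mul, zpow_two, htt, one_zpow, one_mul, zpow_one]

theorem mk_eq_mk' (htt : t * t = 1) {g k : G} (hg : g * t = t * g) (hk : k * t = t * k) :
    mk t hg = mk t hk ↔ k = g ∨ k = g * t := by
  rw [Cfsg.Agent.LThreeMB.mk_eq_mk]
  constructor
  · rintro ⟨i, hi⟩
    rcases tpow htt i with h1 | h1
    · left; rw [← hi, h1, mul_one]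
    · right; rw [← hi, h1]
  · rintro (rfl | rfl)
    · exact ⟨0, by rw [zpow_zero, mul_one]⟩
    · exact ⟨1, by rw [zpow_one]⟩

theorem mk_eq_one' (htt : t * t = 1) {g : G} (hg : g * t = t * g) : mk t hg = 1 ↔ g = 1 ∨ g = t := by
  rw [mk_eq_one]
  constructor
  · rintro ⟨i, hi⟩
    rcases tpow htt i with h1 | h1
    · left; rw [← hi, h1]
    · right; rw [← hi, h1]
  · rintro (rfl | rfl)
    · exact ⟨0, zpow_zero _⟩
    · exact ⟨1, zpow_one _⟩

/-- `z t` is not conjugate to `z` -/
theorem not_conj [Finite G] (h : Chart P z eta pi) (ht : t ∈ P) (h2 : IsType 2 (eta t)) (g : G) :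
    g * z * g⁻¹ ≠ z * t := by
  intro hg
  have h1 : eta (z * t) = eta t := by rw [h.eta_mul z h.large.z_mem t ht, h.eta_z, zero_add]
  have hin : g * z * g⁻¹ ∈ P := by rw [hg]; exact P.mul_mem h.large.z_mem ht
  refine Fused.not_type_two h hin ?_ (by rw [hg, h1]; exact h2)
  rw [hg]
  intro h3
  exact t_ne_one h h2 (mul_eq_left.1 h3)

/-- an element commuting with `z` modulo `⟨t⟩` commutes with `z` -/
theorem comm_z_of_comm [Finite G] (h : Chart P z eta pi) (ht : t ∈ P) (h2 : IsType 2 (eta t)) {g : G}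
    (hg : g * t = t * g) (hgt : mk t hg * mk t (zt h ht) = mk t (zt h ht) * mk t hg) : g * z = z * g := by
  have h1 : (g * z) * t = t * (g * z) := by rw [mul_assoc, zt h ht, ← mul_assoc, hg, mul_assoc]
  have h3 : (z * g) * t = t * (z * g) := by rw [mul_assoc, hg, ← mul_assoc, zt h ht, mul_assoc]
  rw [mk_mul hg (zt h ht) h1, mk_mul (zt h ht) hg h3, mk_eq_mk' (t_sq h ht h2)] at hgt
  rcases hgt with h4 | h4
  · exact h4.symm
  · exfalso
    refine not_conj h ht h2 g⁻¹ ?_
    rw [inv_inv]
    calc g⁻¹ * z * g = g⁻¹ * (z * g) := by group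
      _ = z * t := by rw [h4]; group

/-- the image of `z` -/
def zb (h : Chart P z eta pi) (ht : t ∈ P) : XX t := mk t (zt h ht)

/-- **`C_P(t) / ⟨t⟩` is large.** -/
theorem large [Finite G] (h : Chart P z eta pi) (ht : t ∈ P) (h2 : IsType 2 (eta t)) :
    Large (PB P t) (zb h ht) := by
  have htt := t_sq h ht h2
  have htz := zt h ht
  refine
    { z_mem := mem_PB.2 ⟨z, htz, h.large.z_mem, rfl⟩
      z_ne := ?_, z_sq := ?_, comm_z := ?_, conj_mem := ?_, sq := ?_, comm := ?_, cent := ?_, self := ?_ }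
  · intro h1
    rcases (mk_eq_one' htt htz).1 h1 with h3 | h3
    · exact h.large.z_ne h3
    · exact t_ne_z h h2 h3.symm
  · have : zb h ht * zb h ht = mk t (g := z * z) (by rw [h.large.z_sq, one_mul, mul_one]) := rfl
    rw [this, mk_congr _ (by rw [one_mul, mul_one]) h.large.z_sq]
    rfl
  · intro u hu
    obtain ⟨g, hg, hgQ, rfl⟩ := mem_PB.1 hu
    rw [zb, mk_mul hg htz (by rw [mul_assoc, htz, ← mul_assoc, hg, mul_assoc]),
      mk_mul htz hg (by rw [mul_assoc, hg, ← mul_assoc, htz, mul_assoc])]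
    exact mk_congr _ _ (h.large.comm_z g hgQ)
  · intro u hut v hv
    obtain ⟨k, hk, rfl⟩ := exists_mk u
    obtain ⟨g, hg, hgQ, rfl⟩ := mem_PB.1 hv
    have hkz := comm_z_of_comm h ht h2 hk hut
    exact mem_PB.2 ⟨k * g * k⁻¹, conj_comm hk hg, h.large.conj_mem k hkz g hgQ, rfl⟩
  · intro u hu
    obtain ⟨g, hg, hgQ, rfl⟩ := mem_PB.1 hu
    have h0 : (g * g) * t = t * (g * g) := by rw [mul_assoc, hg, ← mul_assoc, hg, mul_assoc]
    rw [mk_mul hg hg h0]
    rcases h.large.sq g hgQ with h1 | h1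
    · left; rw [mk_congr h0 (by rw [one_mul, mul_one]) h1]; rfl
    · right; exact mk_congr _ _ h1
  · intro u hu v hv
    obtain ⟨g, hg, hgQ, rfl⟩ := mem_PB.1 hu
    obtain ⟨k, hk, hkQ, rfl⟩ := mem_PB.1 hv
    have h0 : (g * k) * t = t * (g * k) := by rw [mul_assoc, hk, ← mul_assoc, hg, mul_assoc]
    have h1 : (k * g) * t = t * (k * g) := by rw [mul_assoc, hg, ← mul_assoc, hk, mul_assoc]
    rw [mk_mul hg hk h0, mk_mul hk hg h1]
    rcases h.large.comm g hgQ k hkQ with h3 | h3
    · left; exact mk_congr _ _ h3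
    · right; rw [zb, mk_mul h1 htz (by rw [mul_assoc, htz, ← mul_assoc, h1, mul_assoc])]
      exact mk_congr _ _ h3
  · intro u hu hc
    obtain ⟨g, hg, hgQ, rfl⟩ := mem_PB.1 hu
    have key : ∀ w ∈ P, w * t = t * w → g * w = w * g := by
      intro w hw hwx
      have h0 : (g * w) * t = t * (g * w) := by rw [mul_assoc, hwx, ← mul_assoc, hg, mul_assoc]
      have h1 : (w * g) * t = t * (w * g) := by rw [mul_assoc, hg, ← mul_assoc, hwx, mul_assoc]
      have h3 := hc _ (mem_PB.2 ⟨w, hwx, hw, rfl⟩)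
      rw [mk_mul hg hwx h0, mk_mul hwx hg h1, mk_eq_mk' htt] at h3
      rcases h3 with h3 | h3
      · exact h3.symm
      · exfalso
        rcases h.large.comm g hgQ w hw with h4 | h4
        · rw [h4] at h3
          exact t_ne_one h h2 (left_eq_mul.1 h3)
        · have h5 : w * g = w * g * z * t := by
            conv_lhs => rw [h3, h4]
          have h6 : z * t = 1 := by
            rw [mul_assoc] at h5
            exact left_eq_mul.1 h5
          have h7 : t = z := by
            calc t = (z * z) * t := by rw [h.large.z_sq, one_mul]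
              _ = z * (z * t) := by group
              _ = z := by rw [h6, mul_one]
          exact t_ne_z h h2 h7
    have h3 : ∀ v, bf (eta t) v = 0 → bf (eta g) v = 0 := by
      intro v hv
      obtain ⟨w, hw, rfl⟩ := h.eta_surj v
      exact (h.comm_iff hgQ hw).1 (key w hw ((h.comm_iff ht hw).2 hv).symm)
    rcases rad h3 with h4 | h4
    · rcases (h.eta_zero g hgQ).1 h4 with h5 | h5
      · left; exact (mk_eq_one' htt hg).2 (Or.inl h5)
      · right; exact mk_congr _ _ h5
    · rcases (h.eta_eq hgQ ht).1 h4 with h5 | h5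
      · left; exact (mk_eq_one' htt hg).2 (Or.inr h5)
      · right
        rw [zb, mk_eq_mk' htt]
        right
        rw [h5, ← htz, mul_assoc, htt, mul_one]
  · intro u hut hc
    obtain ⟨g, hg, rfl⟩ := exists_mk u
    have hgz := comm_z_of_comm h ht h2 hg hut
    have hgc : g ∈ centralizer ({z} : Set G) := mem_centralizer_singleton_iff.2 hgz
    refine mem_PB.2 ⟨g, hg, (h.pi_eq_one ⟨g, hgc⟩).1 ?_, rfl⟩
    have hst : pi ⟨g, hgc⟩ • eta t = eta t := by
      rw [← h.eta_conj ⟨g, hgc⟩ t ht]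
      congr 1
      show g * t * g⁻¹ = t
      rw [hg]; group
    refine stab_trivial h2 hst ?_
    intro v hv
    obtain ⟨w, hw, rfl⟩ := h.eta_surj v
    have hwx : w * t = t * w := ((h.comm_iff ht hw).2 hv).symm
    have h0 : (g * w) * t = t * (g * w) := by rw [mul_assoc, hwx, ← mul_assoc, hg, mul_assoc]
    have h1 : (w * g) * t = t * (w * g) := by rw [mul_assoc, hg, ← mul_assoc, hwx, mul_assoc]
    have h3 := hc _ (mem_PB.2 ⟨w, hwx, hw, rfl⟩)
    rw [mk_mul hg hwx h0, mk_mul hwx hg h1, mk_eq_mk' htt] at h3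
    rw [← h.eta_conj ⟨g, hgc⟩ w hw]
    have hgw : g * w * g⁻¹ ∈ P := h.large.conj_mem g hgz w hw
    rcases h3 with h3 | h3
    · left
      congr 1
      show g * w * g⁻¹ = w
      rw [← h3]; group
    · right
      rw [← h.eta_mul w hw t ht]
      congr 1
      show g * w * g⁻¹ = w * t
      have h4 : g * w = w * g * t := by rw [h3, mul_assoc, htt, mul_one]
      rw [h4, mul_assoc w g t, hg]; group

end chart

end Cfsg.Agent.H819.TypeTwo
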