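import Cfsg.Agent.H819.TypeTwo

/-!
# `C_G(t) / ⟨t⟩` is of Baby Monster type, `t ∈ Q` of type 2: order, quotient, fusion (helper819)
-/

set_option autoImplicit false

namespace Cfsg.Agent.H819.TypeTwo

open Cfsg Cfsg.Spor Cfsg.Agent.MonsterU Cfsg.Agent.MonsterU.Lam2 Cfsg.Agent.MonsterU.Ch
open Cfsg.Agent.Co2Type.Quad Cfsg.Agent.LargeExtra.Base Cfsg.Agent.H819.Base
open Cfsg.Agent.LThreeMB (XX Zx self Zx_normal mk exists_mk mk_eq_one mk_mul mk_one mk_inv mk_congr conj_comm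
  exists_fac PB mem_PB PP mem_PP)
open Subgroup (centralizer zpowers mem_centralizer_singleton_iff)

section chart

variable {G : Type*} [Group G] {P : Subgroup G} {z t : G} {eta : G → L2}
  {pi : Subgroup.centralizer ({z} : Set G) →* Co1}

/-! ### The order -/

/-- `|C_P(t)| = 2^24` -/
theorem card_PP (h : Chart P z eta pi) (ht : t ∈ P) (h2 : IsType 2 (eta t)) : Nat.card ↥(PP P t) = 2 ^ 24 := by
  let φ : ↥P →* Multiplicative (ZMod 2) :=
    { toFun := fun x => Multiplicative.ofAdd (bf (eta x) (eta t))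
      map_one' := by
        show Multiplicative.ofAdd (bf (eta 1) (eta t)) = 1
        rw [h.eta_one, bf_zero_left]; rfl
      map_mul' := fun x y => by
        show Multiplicative.ofAdd (bf (eta (x * y)) (eta t)) = _
        rw [h.eta_mul x x.2 y y.2, bf_add_left]; rfl }
  have hφ : Function.Surjective φ := by
    obtain ⟨v, hv⟩ : ∃ v, bf (eta t) v ≠ 0 := by
      by_contra hcon
      push Not at hcon
      exact ne_zero_of_type (Or.inl rfl) h2 (bf_nondeg hcon)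
    obtain ⟨w, hw, rfl⟩ := h.eta_surj v
    have h1 : bf (eta w) (eta t) = 1 := by rw [bf_comm]; exact zmod_ne hv
    intro c
    obtain ⟨c, rfl⟩ := Multiplicative.ofAdd.surjective c
    have hc : c = 0 ∨ c = 1 := by revert c; decide
    rcases hc with rfl | rfl
    · exact ⟨1, map_one φ⟩
    · exact ⟨⟨w, hw⟩, congrArg Multiplicative.ofAdd h1⟩
  have hker : φ.ker = (PP P t).subgroupOf P := by
    ext x
    rw [MonoidHom.mem_ker, Subgroup.mem_subgroupOf, mem_PP, h.comm_iff x.2 ht]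
    constructor
    · intro hx
      exact ⟨x.2, Multiplicative.ofAdd.injective hx⟩
    · rintro ⟨-, hx⟩
      exact congrArg Multiplicative.ofAdd hx
  have h3 := Subgroup.card_mul_index φ.ker
  rw [Subgroup.index_ker, MonoidHom.range_eq_top.2 hφ, Subgroup.card_top, h.card_Q, hker] at h3
  have h4 : Nat.card ↥((PP P t).subgroupOf P) = Nat.card ↥(PP P t) :=
    Nat.card_congr (Subgroup.subgroupOfEquivOfLe (inf_le_left : PP P t ≤ P)).toEquiv
  have h5 : Nat.card (Multiplicative (ZMod 2)) = 2 := by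
    rw [Nat.card_congr Multiplicative.toAdd, Nat.card_zmod]
  rw [h4, h5] at h3
  have h6 : (2 : ℕ) ^ 25 = 2 ^ 24 * 2 := by norm_num
  rw [h6] at h3
  exact Nat.eq_of_mul_eq_mul_right (by norm_num) h3

theorem card_map_mk {H : Type*} [Group H] {A Z : Subgroup H} [Z.Normal] (hZA : Z ≤ A) :
    Nat.card ↥Z * Nat.card ↥(A.map (QuotientGroup.mk' Z)) = Nat.card ↥A := by
  rw [← Subgroup.relIndex_ker, QuotientGroup.ker_mk', ← Subgroup.relIndex_bot_left, ← Subgroup.relIndex_bot_left]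
  exact Subgroup.relIndex_mul_relIndex ⊥ Z A bot_le hZA

theorem card_Zx (h : Chart P z eta pi) (ht : t ∈ P) (h2 : IsType 2 (eta t)) : Nat.card ↥(Zx t) = 2 := by
  rw [Zx, Nat.card_zpowers]
  have h3 : orderOf (self t) = orderOf t := Subgroup.orderOf_mk t _
  rw [h3]
  exact orderOf_eq_prime (by rw [pow_two, t_sq h ht h2]) (t_ne_one h h2)

theorem card_PP' (h : Chart P z eta pi) (ht : t ∈ P) (h2 : IsType 2 (eta t)) :
    Nat.card ↥((PP P t).subgroupOf (centralizer ({t} : Set G))) = 2 ^ 24 := by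
  rw [← card_PP h ht h2]
  exact Nat.card_congr (Subgroup.subgroupOfEquivOfLe (inf_le_right : PP P t ≤ centralizer ({t} : Set G))).toEquiv

/-- `|C_P(t)/⟨t⟩| = 2^23` -/
theorem card_PB (h : Chart P z eta pi) (ht : t ∈ P) (h2 : IsType 2 (eta t)) : Nat.card ↥(PB P t) = 2 ^ (2 * 11 + 1) := by
  have hZA : Zx t ≤ (PP P t).subgroupOf (centralizer ({t} : Set G)) := by
    rw [Zx, Subgroup.zpowers_le]
    exact Subgroup.mem_subgroupOf.2 (mem_PP.2 ⟨ht, rfl⟩)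
  have h3 := card_map_mk hZA
  rw [card_Zx h ht h2, card_PP' h ht h2] at h3
  have h4 : (2 : ℕ) ^ 24 = 2 * 2 ^ (2 * 11 + 1) := by norm_num
  exact Nat.eq_of_mul_eq_mul_left (by norm_num) (h3.trans h4)

/-! ### Fusion -/

theorem type_leechU : IsType 2 (cl leechU) := ⟨leechU, by show sqNorm vecU = 16 * 2; decide, rfl⟩

theorem leechU_mem_V12 : leechU ∈ CoFrame.V12 := by
  rw [CoFrame.mem_V12]
  show (∀ i, (2 : ℤ) ∣ vecU i) ∧ ∀ i j, (4 : ℤ) ∣ vecU i - vecU j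
  decide +kernel

/-- some `t ∈ P` of type 2: `z` is conjugate in `C(t)` to an element of type 4 of `P` -/
theorem exists_fus_one [Finite G] (h : Chart P z eta pi) (hf : ∃ g : G, g * z * g⁻¹ ∈ P ∧ g * z * g⁻¹ ≠ z) :
    ∃ (t g : G), t ∈ P ∧ IsType 2 (eta t) ∧ g * t = t * g ∧ g * z * g⁻¹ ∈ P ∧ IsType 4 (eta (g * z * g⁻¹)) := by
  obtain ⟨g, hg, hne⟩ := hf
  obtain ⟨s, τ, τz, τy, hs⟩ := AmalSideOf.exists_frame h hg hne ⟨g, rfl⟩
  have h' := h.smul s
  have hy4 := Fused.type_four_of_conj h hg hne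
  set y := g * z * g⁻¹ with hy
  obtain ⟨t, ht, htv⟩ := h'.eta_surj (cl leechU)
  have htv' : s • eta t = cl leechU := htv
  have ht2 : IsType 2 (eta t) := by
    have h1 : eta t = s⁻¹ • cl leechU := by rw [← htv', inv_smul_smul]
    rw [h1]
    exact type_leechU.smul1 _
  have hE : t ∈ AmalGen.EE h' := ⟨ht, by
    show s • eta t ∈ CoFrameL2.W12
    rw [htv']
    exact CoFrameL2.cl_mem_W12.2 leechU_mem_V12⟩
  have hE2 := AmalInf.Eτ h' hg hs τz τy t hE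
  have hP2 : τ * t * τ⁻¹ ∈ P := hE2.1
  have hfus : ∃ g : G, g * z * g⁻¹ ∈ P ∧ g * z * g⁻¹ ≠ z := ⟨g, hg, hne⟩
  have h3 := (type_two_iff h hfus ht).1 ht2
  have h4 : IsType 2 (eta (τ * t * τ⁻¹)) := by
    rw [type_two_iff h hfus hP2]
    refine ⟨?_, fun hc => h3.2 ?_⟩
    · rw [← h3.1]
      exact orderOf_injective (MulAut.conj τ).toMonoidHom (MulAut.conj τ).injective t
    · exact hc.trans (isConj_iff.2 ⟨τ⁻¹, by group⟩)
  obtain ⟨c, hcz, hc⟩ := conj_of_type h (Or.inl rfl) hP2 ht h4 ht2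
  have hzy : (c * τ) * z * (c * τ)⁻¹ = c * y * c⁻¹ := by
    rw [← τz]; group
  refine ⟨t, c * τ, ht, ht2, ?_, ?_, ?_⟩
  · calc c * τ * t = (c * (τ * t * τ⁻¹) * c⁻¹) * (c * τ) := by group
      _ = t * (c * τ) := by rw [hc]
  · rw [hzy]; exact h.large.conj_mem c hcz y hg
  · rw [hzy]
    have h5 := h.eta_conj ⟨c, mem_centralizer_singleton_iff.2 hcz⟩ y hg
    have h6 : eta (c * y * c⁻¹) = pi ⟨c, mem_centralizer_singleton_iff.2 hcz⟩ • eta y := h5
    rw [h6]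
    exact hy4.smul1 _

/-- **for every `t ∈ P` of type 2, `z` is conjugate in `C(t)` to an element of type 4 of `P`** -/
theorem exists_fus [Finite G] (h : Chart P z eta pi) (hf : ∃ g : G, g * z * g⁻¹ ∈ P ∧ g * z * g⁻¹ ≠ z)
    (ht : t ∈ P) (h2 : IsType 2 (eta t)) :
    ∃ g : G, g * t = t * g ∧ g * z * g⁻¹ ∈ P ∧ IsType 4 (eta (g * z * g⁻¹)) := by
  obtain ⟨t', g, ht', h2', hgt, hgP, hg4⟩ := exists_fus_one h hf
  obtain ⟨d, hdz, hd⟩ := conj_of_type h (Or.inl rfl) ht' ht h2' h2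
  have hdz' : d⁻¹ * z = z * d⁻¹ := by
    rw [inv_mul_eq_iff_eq_mul, ← mul_assoc, hdz, mul_assoc, mul_inv_cancel, mul_one]
  have hzz : (d * g * d⁻¹) * z * (d * g * d⁻¹)⁻¹ = d * (g * z * g⁻¹) * d⁻¹ := by
    calc (d * g * d⁻¹) * z * (d * g * d⁻¹)⁻¹ = d * g * (d⁻¹ * z) * d * g⁻¹ * d⁻¹ := by group
      _ = d * (g * z * g⁻¹) * d⁻¹ := by rw [hdz']; group
  refine ⟨d * g * d⁻¹, ?_, ?_, ?_⟩
  · rw [← hd]
    calc d * g * d⁻¹ * (d * t' * d⁻¹) = d * (g * t') * d⁻¹ := by group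
      _ = d * (t' * g) * d⁻¹ := by rw [hgt]
      _ = d * t' * d⁻¹ * (d * g * d⁻¹) := by group
  · rw [hzz]; exact h.large.conj_mem d hdz _ hgP
  · rw [hzz]
    have h5 := h.eta_conj ⟨d, mem_centralizer_singleton_iff.2 hdz⟩ _ hgP
    have h6 : eta (d * (g * z * g⁻¹) * d⁻¹) = pi ⟨d, mem_centralizer_singleton_iff.2 hdz⟩ • eta (g * z * g⁻¹) := h5
    rw [h6]
    exact hg4.smul1 _

/-- **`z` is fused in `C_P(t) / ⟨t⟩`.** -/
theorem exists_fus_zb [Finite G] (h : Chart P z eta pi) (hf : ∃ g : G, g * z * g⁻¹ ∈ P ∧ g * z * g⁻¹ ≠ z)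
    (ht : t ∈ P) (h2 : IsType 2 (eta t)) :
    ∃ g : XX t, g * zb h ht * g⁻¹ ∈ PB P t ∧ g * zb h ht * g⁻¹ ≠ zb h ht := by
  obtain ⟨g, hgt, hgP, hg4⟩ := exists_fus h hf ht h2
  have h1 := conj_comm hgt (zt h ht)
  have e : mk t hgt * zb h ht * (mk t hgt)⁻¹ = mk t h1 := rfl
  refine ⟨mk t hgt, ?_, ?_⟩
  · rw [e]; exact mem_PB.2 ⟨_, h1, hgP, rfl⟩
  · rw [e, zb, Ne, mk_eq_mk' (t_sq h ht h2)]
    rintro (h3 | h3)
    · rw [← h3, h.eta_z] at hg4
      exact ne_zero_of_type (Or.inr (Or.inr rfl)) hg4 rfl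
    · have h4 : g * z * g⁻¹ = z * t := by
        have h5 : z * t = g * z * g⁻¹ * t * t := congrArg (· * t) h3
        rw [h5, mul_assoc _ t t, t_sq h ht h2, mul_one]
      exact not_conj h ht h2 g h4

end chart

end Cfsg.Agent.H819.TypeTwo
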